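import Mathlib
import Cfsg.Prelude.Def_FusionSystem
import Cfsg.Prelude.Def_Solvable
import Cfsg.Prelude.Def_Transfer
import Cfsg.Agent.Lib.Helper25.Fusion

/-!
# S5121 (normal subsystems of a constrained `F_S(G)` come from normal subgroups), design helper25: definitions (`Lib/NCM`).

`G` finite, `S` Sylow, `Q = O_p(G) = pCore p G`, `C_G(Q) ≤ Q`, `F = F_S(G)`, `E ⊴ F` over `T`.
* `R0 = T ∩ Q` (normal in `G`),
* `M1 = {g | c_g|_{R0} ∈ Aut_E(R0)}`, `M2 = {g | [g, Q] ≤ R0}`, `M = M1 ∩ M2` (normal in `G`),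
* `OpM = O^p(M)` (generated by the `p'`-elements of `M`), `H = O^p(M) T`.
The theorem: `H ⊴ G`, `H ∩ S = T`, `F_T(H) = E`, and `H` is the only such normal subgroup.
-/

set_option autoImplicit false

namespace Cfsg.Agent.Helper25.NCM

open Cfsg Cfsg.FusionSystem Cfsg.Agent.Helper25

variable {G : Type*} [Group G]

/-- The hypotheses of S5121, bundled. -/
structure Hyp (p : ℕ) [Fact p.Prime] (S : Sylow p G) (T : Subgroup G) (E : FusionSystem T) : Prop where
  hG : Subgroup.centralizer ((pCore p G : Subgroup G) : Set G) ≤ pCore p G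
  hTS : T ≤ S
  hE : E.IsNormalIn (groupFusionSystem (S : Subgroup G)) p

/-- `R0 = T ∩ O_p(G)`. -/
def R0 (p : ℕ) (T : Subgroup G) : Subgroup G := T ⊓ pCore p G

theorem R0_le_T (p : ℕ) (T : Subgroup G) : R0 p T ≤ T := inf_le_left

theorem R0_le_Q (p : ℕ) (T : Subgroup G) : R0 p T ≤ pCore p G := inf_le_right

theorem conjHom_apply (P : Subgroup G) (g : G) (x : P) : conjHom P g x = g * (x : G) * g⁻¹ := rfl

/-- `MP E P`: the elements of `N_G(P)` inducing an element of `Aut_E(P)` on `P ≤ T` (stated for `g` and `g⁻¹`, so that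
it is visibly a subgroup; when `P` is weakly closed in `E` the first and third conditions are automatic, see
`Hyp.mem_MP_iff`). -/
def MP {T : Subgroup G} (E : FusionSystem T) (P : Subgroup G) (hPT : P ≤ T) : Subgroup G where
  carrier := {g | g ∈ Subgroup.normalizer ((P : Subgroup G) : Set G) ∧
    conjHom P g ∈ E.Hom P ∧ conjHom P g⁻¹ ∈ E.Hom P}
  one_mem' := by
    refine ⟨Subgroup.one_mem _, ?_, ?_⟩
    · exact E.conj_mem hPT T.one_mem
    · rw [inv_one]; exact E.conj_mem hPT T.one_mem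
  mul_mem' := by
    rintro a b ⟨haN, ha, ha'⟩ ⟨hbN, hb, hb'⟩
    have hbR : ∀ x : P, conjHom P b x ∈ P := fun x =>
      (Subgroup.mem_normalizer_iff.mp hbN x).mp x.2
    have haR' : ∀ x : P, conjHom P a⁻¹ x ∈ P := fun x =>
      (Subgroup.mem_normalizer_iff.mp (Subgroup.inv_mem _ haN) x).mp x.2
    refine ⟨Subgroup.mul_mem _ haN hbN, ?_, ?_⟩
    · refine comp_mem' E hb ha hbR (fun x => ?_)
      simp only [conjHom_apply, mul_inv_rev, mul_assoc]
    · refine comp_mem' E ha' hb' haR' (fun x => ?_)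
      simp only [conjHom_apply, mul_inv_rev, mul_assoc, inv_inv]
  inv_mem' := by
    rintro a ⟨haN, ha, ha'⟩
    exact ⟨Subgroup.inv_mem _ haN, ha', by rwa [inv_inv]⟩

theorem mem_MP {T : Subgroup G} (E : FusionSystem T) (P : Subgroup G) (hPT : P ≤ T) {g : G} :
    g ∈ MP E P hPT ↔ g ∈ Subgroup.normalizer ((P : Subgroup G) : Set G) ∧
      conjHom P g ∈ E.Hom P ∧ conjHom P g⁻¹ ∈ E.Hom P := Iff.rfl

/-- `M1 = MP E R0`: the elements of `G` inducing an element of `Aut_E(R0)` on `R0`. -/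
def M1 (p : ℕ) {T : Subgroup G} (E : FusionSystem T) : Subgroup G := MP E (R0 p T) (R0_le_T p T)

theorem mem_M1 (p : ℕ) {T : Subgroup G} (E : FusionSystem T) {g : G} :
    g ∈ M1 p E ↔ g ∈ Subgroup.normalizer ((R0 p T : Subgroup G) : Set G) ∧
      conjHom (R0 p T) g ∈ E.Hom (R0 p T) ∧ conjHom (R0 p T) g⁻¹ ∈ E.Hom (R0 p T) := Iff.rfl

/-- `M2`: the elements acting trivially on `Q / R0` (with the normal core of `R0`, so that it is visibly a subgroup;
under `Hyp`, `R0` is normal and `normalCore` can be dropped, see `Hyp.mem_M2_iff`). -/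
def M2 (p : ℕ) (T : Subgroup G) : Subgroup G where
  carrier := {g | ∀ q ∈ pCore p G, g * q * g⁻¹ * q⁻¹ ∈ (R0 p T).normalCore}
  one_mem' := by
    intro q _
    simp
  mul_mem' := by
    intro a b ha hb q hq
    have h1 : a * (b * q * b⁻¹ * q⁻¹) * a⁻¹ ∈ (R0 p T).normalCore :=
      (Subgroup.normalCore_normal (R0 p T)).conj_mem _ (hb q hq) a
    have h2 := Subgroup.mul_mem _ h1 (ha q hq)
    have e : a * (b * q * b⁻¹ * q⁻¹) * a⁻¹ * (a * q * a⁻¹ * q⁻¹) = a * b * q * (a * b)⁻¹ * q⁻¹ := by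
      group
    rwa [e] at h2
  inv_mem' := by
    intro a ha q hq
    have h1 := Subgroup.inv_mem _ (ha q hq)
    have h2 : a⁻¹ * (a * q * a⁻¹ * q⁻¹)⁻¹ * a⁻¹⁻¹ ∈ (R0 p T).normalCore :=
      (Subgroup.normalCore_normal (R0 p T)).conj_mem _ h1 a⁻¹
    have e : a⁻¹ * (a * q * a⁻¹ * q⁻¹)⁻¹ * a⁻¹⁻¹ = a⁻¹ * q * a⁻¹⁻¹ * q⁻¹ := by group
    rwa [e] at h2

theorem mem_M2 (p : ℕ) (T : Subgroup G) {g : G} :
    g ∈ M2 p T ↔ ∀ q ∈ pCore p G, g * q * g⁻¹ * q⁻¹ ∈ (R0 p T).normalCore := Iff.rfl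

/-- `M = M1 ∩ M2`. -/
def M (p : ℕ) {T : Subgroup G} (E : FusionSystem T) : Subgroup G := M1 p E ⊓ M2 p T

/-- `O^p(M)`, as a subgroup of `G`: generated by the elements of `M` of order prime to `p`. -/
def OpM (p : ℕ) {T : Subgroup G} (E : FusionSystem T) : Subgroup G :=
  Subgroup.closure {g : G | g ∈ M p E ∧ (orderOf g).Coprime p}

/-- The normal subgroup `H = O^p(M) T`. -/
def H (p : ℕ) {T : Subgroup G} (E : FusionSystem T) : Subgroup G := OpM p E ⊔ T

theorem OpM_le_M (p : ℕ) {T : Subgroup G} (E : FusionSystem T) : OpM p E ≤ M p E :=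
  (Subgroup.closure_le _).mpr fun _ hg => hg.1

theorem OpM_le_H (p : ℕ) {T : Subgroup G} (E : FusionSystem T) : OpM p E ≤ H p E := le_sup_left

theorem T_le_H (p : ℕ) {T : Subgroup G} (E : FusionSystem T) : T ≤ H p E := le_sup_right

theorem mem_OpM_of_coprime (p : ℕ) {T : Subgroup G} (E : FusionSystem T) {g : G} (hg : g ∈ M p E)
    (hco : (orderOf g).Coprime p) : g ∈ OpM p E :=
  Subgroup.subset_closure ⟨hg, hco⟩

/-! ### `O_p(G)` -/

theorem Q_normal (p : ℕ) (G : Type*) [Group G] : (pCore p G).Normal :=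
  Subgroup.sSup_normal _ (fun _ h => h.1)

theorem Q_isPGroup (p : ℕ) (G : Type*) [Group G] : IsPGroup p (pCore p G) :=
  Sylow.sSup_of_normal _ (fun _ h => h.2) (fun _ h => h.1)

theorem le_Q {p : ℕ} {N : Subgroup G} (hN : N.Normal) (hp : IsPGroup p N) : N ≤ pCore p G :=
  le_sSup ⟨hN, hp⟩

theorem Q_conj_mem (p : ℕ) (g : G) {q : G} (hq : q ∈ pCore p G) : g * q * g⁻¹ ∈ pCore p G :=
  (Q_normal p G).conj_mem q hq g

end Cfsg.Agent.Helper25.NCM
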