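import Mathlib
import Cfsg.Agent.Lib.NCM.NCMDefs

/-!
# S5121 farm (design helper25): basic consequences of the hypotheses (proved by helper25).
-/

set_option autoImplicit false

namespace Cfsg.Agent.Helper25.NCM

open Cfsg Cfsg.FusionSystem Cfsg.Agent.Helper25

variable {G : Type*} [Group G] {p : ℕ} [Fact p.Prime] {S : Sylow p G} {T : Subgroup G}
  {E : FusionSystem T}

theorem Hyp.sc (h : Hyp p S T E) : (groupFusionSystem (S : Subgroup G)).StronglyClosed T :=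
  h.hE.1.2.2.2.1

theorem Hyp.Esat (h : Hyp p S T E) : E.IsSaturated p := h.hE.1.1

theorem Hyp.inv (h : Hyp p S T E) : E.IsInvariantIn (groupFusionSystem (S : Subgroup G)) := h.hE.1.2.2

theorem Hyp.sub (h : Hyp p S T E) : E.IsSubsystemOf (groupFusionSystem (S : Subgroup G)) := h.hE.1.2.2.1

/-- Every map of `E` is a conjugation by an element of `G`. -/
theorem Hyp.hom_conj (h : Hyp p S T E) {P : Subgroup G} {φ : P →* G} (hφ : φ ∈ E.Hom P) :
    ∃ g : G, ∀ x : P, φ x = g * (x : G) * g⁻¹ := by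
  obtain ⟨-, -, g, hg⟩ := h.sub P hφ
  exact ⟨g, hg⟩

/-- Strong closure, elementwise. -/
theorem Hyp.strong (h : Hyp p S T E) {g t : G} (ht : t ∈ T) (hg : g * t * g⁻¹ ∈ (S : Subgroup G)) :
    g * t * g⁻¹ ∈ T := by
  have hz : Subgroup.zpowers t ≤ T := (Subgroup.zpowers_le).mpr ht
  have hS : ∀ x : Subgroup.zpowers t, g * (x : G) * g⁻¹ ∈ (S : Subgroup G) := by
    rintro ⟨x, n, rfl⟩
    have : g * t ^ n * g⁻¹ = (g * t * g⁻¹) ^ n := by
      rw [conj_zpow]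
    show g * t ^ n * g⁻¹ ∈ (S : Subgroup G)
    rw [this]
    exact Subgroup.zpow_mem _ hg n
  have hmem : conjHom (Subgroup.zpowers t) g ∈ (groupFusionSystem (S : Subgroup G)).Hom (Subgroup.zpowers t) :=
    ⟨hz.trans h.hTS, hS, g, fun x => rfl⟩
  exact h.sc.2 _ hz _ hmem ⟨t, Subgroup.mem_zpowers t⟩

theorem Hyp.T_conj_S (h : Hyp p S T E) {s t : G} (hs : s ∈ (S : Subgroup G)) (ht : t ∈ T) :
    s * t * s⁻¹ ∈ T :=
  h.strong ht (Subgroup.mul_mem _ (Subgroup.mul_mem _ hs (h.hTS ht)) (Subgroup.inv_mem _ hs))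

/-- `O_p(G)` lies in every Sylow `p`-subgroup. -/
theorem Q_le_S [Finite G] (S : Sylow p G) : pCore p G ≤ (S : Subgroup G) := by
  have hn := Q_normal p G
  obtain ⟨R, hR⟩ := (Q_isPGroup p G).exists_le_sylow
  obtain ⟨g, hg⟩ := MulAction.exists_smul_eq G R S
  intro x hx
  have hx' : g⁻¹ * x * g⁻¹⁻¹ ∈ pCore p G := hn.conj_mem x hx g⁻¹
  have h1 : g⁻¹ * x * g⁻¹⁻¹ ∈ (R : Subgroup G) := hR hx'
  have h2 : g * (g⁻¹ * x * g⁻¹⁻¹) * g⁻¹ ∈ ((g • R : Sylow p G) : Subgroup G) := by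
    rw [Sylow.coe_subgroup_smul, Subgroup.mem_pointwise_smul_iff_inv_smul_mem]
    simp only [MulAut.smul_def, MulAut.conj_inv_apply]
    convert h1 using 1
    group
  rw [hg] at h2
  convert h2 using 1
  group

variable [Finite G]

/-- `R0 = T ∩ O_p(G)` is normal in `G`. -/
theorem Hyp.R0_conj (h : Hyp p S T E) (g : G) {x : G} (hx : x ∈ R0 p T) : g * x * g⁻¹ ∈ R0 p T := by
  have hq : g * x * g⁻¹ ∈ pCore p G := Q_conj_mem p g hx.2
  exact ⟨h.strong hx.1 (Q_le_S S hq), hq⟩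

theorem Hyp.R0_normal (h : Hyp p S T E) : (R0 p T).Normal := ⟨fun _ hx g => h.R0_conj g hx⟩

theorem Hyp.normalCore_R0 (h : Hyp p S T E) : (R0 p T).normalCore = R0 p T :=
  haveI := h.R0_normal
  Subgroup.normalCore_eq_self _

theorem Hyp.mem_M2_iff (h : Hyp p S T E) {g : G} :
    g ∈ M2 p T ↔ ∀ q ∈ pCore p G, g * q * g⁻¹ * q⁻¹ ∈ R0 p T := by
  rw [mem_M2, h.normalCore_R0]

/-- `[T, Q] ≤ R0`. -/
theorem Hyp.comm_T_Q (h : Hyp p S T E) {t q : G} (ht : t ∈ T) (hq : q ∈ pCore p G) :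
    t * q * t⁻¹ * q⁻¹ ∈ R0 p T := by
  refine ⟨?_, ?_⟩
  · have h1 : q * t⁻¹ * q⁻¹ ∈ T := h.T_conj_S (Q_le_S S hq) (T.inv_mem ht)
    have := T.mul_mem ht h1
    have e : t * (q * t⁻¹ * q⁻¹) = t * q * t⁻¹ * q⁻¹ := by group
    rwa [e] at this
  · exact Subgroup.mul_mem _ (Q_conj_mem p t hq) (Subgroup.inv_mem _ hq)

theorem Hyp.T_le_M2 (h : Hyp p S T E) : T ≤ M2 p T := fun _ ht =>
  h.mem_M2_iff.mpr fun _ hq => h.comm_T_Q ht hq

omit [Finite G] in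
theorem Hyp.R0_le_S (h : Hyp p S T E) : R0 p T ≤ (S : Subgroup G) := (R0_le_T p T).trans h.hTS

omit [Finite G] in
theorem Hyp.isPGroup_T (h : Hyp p S T E) : IsPGroup p T := S.2.to_le h.hTS

end Cfsg.Agent.Helper25.NCM
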