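import Mathlib
import Cfsg.Agent.Lib.NCM.NCMBasic

/-!
# S5121 farm (design helper25), piece NCM-EXT0 (SHORT): the extension condition of `E ⊴ F_S(G)`, in group terms.

RECIPE. `obtain ⟨β, hβ, hβT, hβC⟩ := h.hE.2 α hα` (`X := T ⊔ centralizerIn ↑S T`, `β ∈ (groupFusionSystem ↑S).autGroup X`).
`hX : X ≤ S := sup_le h.hTS inf_le_left`; `(Helper25.mem_autGroup_iff _ hX β).mp hβ : X.subtype.comp β.toMonoidHom ∈ (groupFusionSystem ↑S).Hom X`
unfolds (`obtain ⟨-, -, g, hg⟩ := this`) to `hg : ∀ x : X, ((β x : X) : G) = g * x * g⁻¹` (up to `MonoidHom.comp_apply`/`rfl`).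
First part: `(hβT x).symm.trans (hg (Subgroup.inclusion le_sup_left x))`. Second part: for `c ∈ centralizerIn ↑S T`, `c' : X := ⟨c, le_sup_right hc⟩`; `hβC c' hc` and `hg c'`.
Keep the statement, name, namespace exactly (you may add imports). Aux names: prefix `ncmext0_`.
-/

set_option autoImplicit false

namespace Cfsg.Agent.Helper25.NCM

open Cfsg Cfsg.FusionSystem Cfsg.Agent.Helper25

variable {G : Type*} [Group G] {p : ℕ} [Fact p.Prime] {S : Sylow p G} {T : Subgroup G}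
  {E : FusionSystem T}

theorem Hyp.exists_ext_elt0 (h : Hyp p S T E) {α : MulAut T} (hα : α ∈ E.autGroup T) :
    ∃ g : G, (∀ x : T, ((α x : T) : G) = g * (x : G) * g⁻¹) ∧
      ∀ c ∈ centralizerIn (S : Subgroup G) T,
        c⁻¹ * (g * c * g⁻¹) ∈ T ⊓ Subgroup.centralizer (T : Set G) := by
  obtain ⟨β, hβ, hβT, hβC⟩ := h.hE.2 α hα
  have hX : T ⊔ centralizerIn (S : Subgroup G) T ≤ (S : Subgroup G) := sup_le h.hTS inf_le_left
  have hmem := (Helper25.mem_autGroup_iff _ hX β).mp hβ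
  obtain ⟨-, -, g, hg⟩ := hmem
  have hg' : ∀ x : ↥(T ⊔ centralizerIn (S : Subgroup G) T),
      ((β x : ↥(T ⊔ centralizerIn (S : Subgroup G) T)) : G) = g * (x : G) * g⁻¹ := fun x => hg x
  refine ⟨g, fun x => ?_, fun c hc => ?_⟩
  · exact (hβT x).symm.trans (hg' (Subgroup.inclusion le_sup_left x))
  · have h1 := hβC ⟨c, (le_sup_right : centralizerIn (S : Subgroup G) T ≤
      T ⊔ centralizerIn (S : Subgroup G) T) hc⟩ hc
    have h2 := hg' ⟨c, (le_sup_right : centralizerIn (S : Subgroup G) T ≤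
      T ⊔ centralizerIn (S : Subgroup G) T) hc⟩
    rw [h2] at h1
    exact h1

end Cfsg.Agent.Helper25.NCM
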