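import Mathlib

/-!
# S5121 farm (design helper25), piece NCM-ZPOW (MEDIUM, pure Mathlib): the condition `[C, g] ≤ Z(T)` passes to powers of `g`.

`T`, `C` subgroups of `G`, `Z := T ⊓ centralizer T`. If `g ∈ N_G(T)` and `c⁻¹ (g c g⁻¹) ∈ Z` for all `c ∈ C`, the same holds for every
`y ∈ zpowers g`.

RECIPE. `Z` is normalized by `N_G(T)`: for `a ∈ normalizer T`, `z ∈ Z`: `a z a⁻¹ ∈ T` (`Subgroup.mem_normalizer_iff`) and it centralizes `T`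
(`Subgroup.mem_centralizer_iff`: for `t ∈ T` write `t = a (a⁻¹ t a) a⁻¹`, with `a⁻¹ t a ∈ T` by `mem_normalizer_iff` applied to `a⁻¹`/`Subgroup.inv_mem`).
Let `K : Subgroup G` with carrier `{a | a ∈ normalizer T ∧ ∀ c ∈ C, c⁻¹ * (a * c * a⁻¹) ∈ Z}`:
* one: `c⁻¹ * (1 * c * 1⁻¹) = 1`;
* mul: for `a b ∈ K`, `c ∈ C`: `z := c⁻¹ * (b * c * b⁻¹) ∈ Z`, so `b c b⁻¹ = c z` and
  `c⁻¹ * (a b c (a b)⁻¹) = (c⁻¹ * (a c a⁻¹)) * (a z a⁻¹) ∈ Z` (`group` for the identity);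
* inv: for `a ∈ K`, `c ∈ C`: `z := c⁻¹ * (a c a⁻¹) ∈ Z`; `c⁻¹ * (a⁻¹ c a) = a⁻¹ z⁻¹ a ∈ Z` (identity: `a⁻¹ z⁻¹ a = a⁻¹ (a c⁻¹ a⁻¹ c) a = c⁻¹ a⁻¹ c a`; `group`), normalized by `a⁻¹`.
Then `g ∈ K`, `zpowers g ≤ K` (`Subgroup.zpowers_le`), done.
Keep the statement, name, namespace exactly (you may add imports). Aux names: prefix `ncmzpow_`.
-/

set_option autoImplicit false

namespace Cfsg.Agent.Helper25.NCM

/-- `Z(T) = T ⊓ C_G(T)` is normalized by `N_G(T)` -/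
theorem ncmzpow_conj_mem {G : Type*} [Group G] (T : Subgroup G) {a z : G}
    (ha : a ∈ Subgroup.normalizer (T : Set G))
    (hz : z ∈ T ⊓ Subgroup.centralizer (T : Set G)) :
    a * z * a⁻¹ ∈ T ⊓ Subgroup.centralizer (T : Set G) := by
  have hz1 : z ∈ T := hz.1
  have hz2 : z ∈ Subgroup.centralizer (T : Set G) := hz.2
  rw [Subgroup.mem_inf]
  refine ⟨(Subgroup.mem_normalizer_iff.mp ha z).mp hz1, ?_⟩
  rw [Subgroup.mem_centralizer_iff]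
  intro t ht
  have hainv : a⁻¹ ∈ Subgroup.normalizer (T : Set G) := Subgroup.inv_mem _ ha
  have ht' : a⁻¹ * t * a⁻¹⁻¹ ∈ T := (Subgroup.mem_normalizer_iff.mp hainv t).mp ht
  have hcomm := (Subgroup.mem_centralizer_iff.mp hz2) _ ht'
  have e1 : t * (a * z * a⁻¹) = a * ((a⁻¹ * t * a⁻¹⁻¹) * z) * a⁻¹ := by group
  have e2 : a * z * a⁻¹ * t = a * (z * (a⁻¹ * t * a⁻¹⁻¹)) * a⁻¹ := by group
  rw [e1, e2, hcomm]

/-- the subgroup of `N_G(T)` of the elements `a` with `[C, a] ≤ Z(T)` -/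
def ncmzpow_K {G : Type*} [Group G] (T C : Subgroup G) : Subgroup G where
  carrier := {a | a ∈ Subgroup.normalizer (T : Set G) ∧
    ∀ c ∈ C, c⁻¹ * (a * c * a⁻¹) ∈ T ⊓ Subgroup.centralizer (T : Set G)}
  one_mem' := by
    refine ⟨Subgroup.one_mem _, fun c _ => ?_⟩
    have e : c⁻¹ * (1 * c * 1⁻¹) = 1 := by group
    rw [e]
    exact Subgroup.one_mem _
  mul_mem' := by
    rintro a b ⟨haN, ha⟩ ⟨hbN, hb⟩
    refine ⟨Subgroup.mul_mem _ haN hbN, fun c hc => ?_⟩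
    have e : c⁻¹ * (a * b * c * (a * b)⁻¹) =
        (c⁻¹ * (a * c * a⁻¹)) * (a * (c⁻¹ * (b * c * b⁻¹)) * a⁻¹) := by group
    rw [e]
    exact Subgroup.mul_mem _ (ha c hc) (ncmzpow_conj_mem T haN (hb c hc))
  inv_mem' := by
    rintro a ⟨haN, ha⟩
    have hainv : a⁻¹ ∈ Subgroup.normalizer (T : Set G) := Subgroup.inv_mem _ haN
    refine ⟨hainv, fun c hc => ?_⟩
    have e : c⁻¹ * (a⁻¹ * c * a⁻¹⁻¹) = a⁻¹ * (c⁻¹ * (a * c * a⁻¹))⁻¹ * a⁻¹⁻¹ := by group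
    rw [e]
    exact ncmzpow_conj_mem T hainv (Subgroup.inv_mem _ (ha c hc))

theorem ext_zpow {G : Type*} [Group G] (T C : Subgroup G) {g : G}
    (hgN : g ∈ Subgroup.normalizer (T : Set G))
    (hgC : ∀ c ∈ C, c⁻¹ * (g * c * g⁻¹) ∈ T ⊓ Subgroup.centralizer (T : Set G))
    {y : G} (hy : y ∈ Subgroup.zpowers g) :
    y ∈ Subgroup.normalizer (T : Set G) ∧
      ∀ c ∈ C, c⁻¹ * (y * c * y⁻¹) ∈ T ⊓ Subgroup.centralizer (T : Set G) := by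
  have hg : g ∈ ncmzpow_K T C := ⟨hgN, hgC⟩
  have hle : Subgroup.zpowers g ≤ ncmzpow_K T C := (Subgroup.zpowers_le).mpr hg
  exact hle hy

end Cfsg.Agent.Helper25.NCM
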