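import Mathlib
import Cfsg.Agent.Lib.NCM.NCMExt0
import Cfsg.Agent.Lib.NCM.NCMZpow
import Cfsg.Agent.Lib.Helper12.NilCover
import Cfsg.Agent.Lib.Helper25.FusionRecept
import Cfsg.Agent.Lib.Helper25.FusionSylow2

/-!
# S5121 farm (design helper25), piece NCM-EXT (MEDIUM): a `p'`-element of `Aut_E(T)` is induced by a `p'`-element of `G` satisfying the extension condition.

RECIPE. `obtain ⟨g, hgT, hgC⟩ := h.exists_ext_elt0 hα`. `g ∈ normalizer T`: `g x g⁻¹ = α x ∈ T` for `x ∈ T`, and `g⁻¹ y g = α⁻¹ y ∈ T` (apply `hgT` to `α⁻¹ ⟨y,_⟩`; `MulAut.apply_inv_self`);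
`Subgroup.mem_normalizer_iff` (or `Helper25.mem_normalizer_of_forall`, `Lib/Helper25/FusionRecept.lean:17`).
`obtain ⟨u, y, hu, hy, huy, ⟨k, hk⟩, hyp⟩ := Cfsg.Agent.Helper12.NilCover.exists_pParts p g` (`Lib/Helper12/NilCover.lean:21`: `u y ∈ zpowers g`, `g = u * y`, `orderOf u = p ^ k`, `¬ p ∣ orderOf y`).
Take `n := y`: `(orderOf y).Coprime p` (`((Nat.Prime.coprime_iff_not_dvd Fact.out).mpr hyp).symm`), third clause = `(ext_zpow T _ hgN hgC hy).2`.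
SECOND CLAUSE `α x = y x y⁻¹`: let `ν := Subgroup.normalizerMonoidHom T : ↥(normalizer T) →* MulAut T` (`Helper25.normalizerMonoidHom_apply_coe`, `Lib/Helper25/FusionSylow2.lean:30`: `((ν n x : T) : G) = n * x * n⁻¹`).
`ν ⟨g, _⟩ = α` (`MulEquiv.ext`, `Subtype.ext`, `hgT`). `u, y ∈ normalizer T` (`(ext_zpow … hu).1`, `(ext_zpow … hy).1`), `⟨g,_⟩ = ⟨u,_⟩ * ⟨y,_⟩`, so `α = ν u' * ν y'`.
`(ν u') ^ (p ^ k) = ν (u' ^ p ^ k) = 1` (`pow_orderOf_eq_one`, `hk`; `Subtype.ext`), so `orderOf (ν u') ∣ p ^ k`. Also `ν u' ∈ zpowers α` (`u = g ^ i` (`Subgroup.mem_zpowers_iff`), so `ν u' = α ^ i`: `map_zpow`),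
hence `orderOf (ν u') ∣ orderOf α` (`orderOf_dvd_of_mem_zpowers`), coprime to `p` hence to `p ^ k`: `orderOf (ν u') = 1` (`Nat.eq_one_of_dvd_coprimes`/`Nat.Coprime.eq_one_of_dvd`), `ν u' = 1`, `α = ν y'`; evaluate at `x`.
Keep the statement, name, namespace exactly (you may add imports). Aux names: prefix `ncmext_`.
-/

set_option autoImplicit false

namespace Cfsg.Agent.Helper25.NCM

open Cfsg Cfsg.FusionSystem Cfsg.Agent.Helper25

variable {G : Type*} [Group G] [Finite G] {p : ℕ} [Fact p.Prime] {S : Sylow p G} {T : Subgroup G}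
  {E : FusionSystem T}

theorem Hyp.exists_ext_elt (h : Hyp p S T E) {α : MulAut T} (hα : α ∈ E.autGroup T)
    (hco : (orderOf α).Coprime p) :
    ∃ n : G, (orderOf n).Coprime p ∧ (∀ x : T, ((α x : T) : G) = n * (x : G) * n⁻¹) ∧
      ∀ c ∈ centralizerIn (S : Subgroup G) T,
        c⁻¹ * (n * c * n⁻¹) ∈ T ⊓ Subgroup.centralizer (T : Set G) := by
  obtain ⟨g, hgT, hgC⟩ := h.exists_ext_elt0 hα
  have hgN : g ∈ Subgroup.normalizer (T : Set G) := by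
    apply Cfsg.Agent.Helper25.mem_normalizer_of_forall
    · intro y hy
      rw [← hgT ⟨y, hy⟩]; exact (α ⟨y, hy⟩).2
    · intro y hy
      have h0 := hgT (α⁻¹ ⟨y, hy⟩)
      rw [MulAut.apply_inv_self] at h0
      have h2 : g⁻¹ * y * g = ((α⁻¹ ⟨y, hy⟩ : T) : G) := by
        have h00 : y = g * ((α⁻¹ ⟨y, hy⟩ : T) : G) * g⁻¹ := h0
        calc g⁻¹ * y * g = g⁻¹ * (g * ((α⁻¹ ⟨y, hy⟩ : T) : G) * g⁻¹) * g := by rw [← h00]
          _ = ((α⁻¹ ⟨y, hy⟩ : T) : G) := by group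
      rw [h2]; exact (α⁻¹ ⟨y, hy⟩).2
  obtain ⟨u, y, hu, hy, huy, ⟨k, hk⟩, hyp⟩ := Cfsg.Agent.Helper12.NilCover.exists_pParts p g
  have hyco : (orderOf y).Coprime p := ((Nat.Prime.coprime_iff_not_dvd Fact.out).mpr hyp).symm
  have hyE := ext_zpow T (centralizerIn (S : Subgroup G) T) hgN hgC hy
  have huE := ext_zpow T (centralizerIn (S : Subgroup G) T) hgN hgC hu
  refine ⟨y, hyco, ?_, hyE.2⟩
  have hνg : T.normalizerMonoidHom ⟨g, hgN⟩ = α := by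
    apply MulEquiv.ext
    intro x
    apply Subtype.ext
    rw [Cfsg.Agent.Helper25.normalizerMonoidHom_apply_coe]
    exact (hgT x).symm
  have hmul : (⟨g, hgN⟩ : Subgroup.normalizer (T : Set G)) = ⟨u, huE.1⟩ * ⟨y, hyE.1⟩ :=
    Subtype.ext huy
  have hα2 : α = T.normalizerMonoidHom ⟨u, huE.1⟩ * T.normalizerMonoidHom ⟨y, hyE.1⟩ := by
    rw [← hνg, hmul, map_mul]
  have hu1 : (T.normalizerMonoidHom ⟨u, huE.1⟩) ^ (p ^ k) = 1 := by
    rw [← map_pow]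
    have h3 : (⟨u, huE.1⟩ : Subgroup.normalizer (T : Set G)) ^ (p ^ k) = 1 := by
      apply Subtype.ext
      rw [Subgroup.coe_pow, Subgroup.coe_one]
      show u ^ (p ^ k) = 1
      rw [← hk]; exact pow_orderOf_eq_one u
    rw [h3, map_one]
  have hu2 : T.normalizerMonoidHom ⟨u, huE.1⟩ ∈ Subgroup.zpowers α := by
    obtain ⟨i, hi⟩ := Subgroup.mem_zpowers_iff.mp hu
    refine Subgroup.mem_zpowers_iff.mpr ⟨i, ?_⟩
    rw [← hνg, ← map_zpow]
    congr 1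
    apply Subtype.ext
    rw [Subgroup.coe_zpow]
    exact hi
  have hd1 : orderOf (T.normalizerMonoidHom ⟨u, huE.1⟩) ∣ p ^ k := orderOf_dvd_of_pow_eq_one hu1
  have hd2 : orderOf (T.normalizerMonoidHom ⟨u, huE.1⟩) ∣ orderOf α :=
    orderOf_dvd_of_mem_zpowers hu2
  have h1 : orderOf (T.normalizerMonoidHom ⟨u, huE.1⟩) = 1 :=
    Nat.Coprime.eq_one_of_dvd (Nat.Coprime.coprime_dvd_left hd2 (hco.pow_right k)) hd1
  have hνu : T.normalizerMonoidHom ⟨u, huE.1⟩ = 1 := orderOf_eq_one_iff.mp h1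
  intro x
  rw [hα2, hνu, one_mul]
  rfl

end Cfsg.Agent.Helper25.NCM
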