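import Mathlib

/-!
# S5121 farm (design helper25), piece NCM-STAB (MEDIUM, pure Mathlib): coprime action on a chain `1 ≤ R ≤ …`, elementwise.

`R` normal in `G`, `g` of (positive) order `n` prime to `p`, `w := g q g⁻¹ q⁻¹`, `w ^ (p ^ k) ∈ R`, and `g` commutes with `w` modulo `R`
(`g w g⁻¹ w⁻¹ ∈ R`).  Then `w ∈ R`.

RECIPE. Work in `G ⧸ R` with `π := QuotientGroup.mk' R` (`π x = 1 ↔ x ∈ R`: `QuotientGroup.eq_one_iff`). Put `g' := π g`, `q' := π q`, `w' := π w = g' q' g'⁻¹ q'⁻¹`.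
`hc` gives `g' * w' = w' * g'` (`map_mul`, `map_inv`, `mul_inv_eq_one`/`group`). Then `g' * q' * g'⁻¹ = w' * q'`, and by induction on `m`
`g' ^ m * q' * (g' ^ m)⁻¹ = w' ^ m * q'` (`pow_succ`, commute `g'` past `w' ^ m` with `Commute.pow_right`). With `m = orderOf g`: `g' ^ m = π (g ^ m) = 1`
(`pow_orderOf_eq_one`), so `w' ^ (orderOf g) = 1`; also `w' ^ (p ^ k) = 1` from `hw`. Hence `orderOf w' ∣ gcd (orderOf g) (p ^ k) = 1`
(`orderOf_dvd_of_pow_eq_one`, `Nat.dvd_gcd`, `Nat.Coprime.pow_right`), `w' = 1` (`orderOf_eq_one_iff`), i.e. `w ∈ R`.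
Keep the statement, name, namespace exactly (you may add imports). Aux names: prefix `ncmstab_`.
-/

set_option autoImplicit false

namespace Cfsg.Agent.Helper25.NCM

theorem stab {G : Type*} [Group G] (p : ℕ) [Fact p.Prime] (R : Subgroup G) [R.Normal] (g q : G)
    (hg : (orderOf g).Coprime p)
    (hw : ∃ k : ℕ, (g * q * g⁻¹ * q⁻¹) ^ (p ^ k) ∈ R)
    (hc : g * (g * q * g⁻¹ * q⁻¹) * g⁻¹ * (g * q * g⁻¹ * q⁻¹)⁻¹ ∈ R) :
    g * q * g⁻¹ * q⁻¹ ∈ R := by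
  obtain ⟨k, hk⟩ := hw
  have hker : ∀ x : G, (QuotientGroup.mk' R) x = 1 ↔ x ∈ R := fun x => QuotientGroup.eq_one_iff x
  obtain ⟨g', hg'⟩ : ∃ g' : G ⧸ R, g' = (QuotientGroup.mk' R) g := ⟨_, rfl⟩
  obtain ⟨q', hq'⟩ : ∃ q' : G ⧸ R, q' = (QuotientGroup.mk' R) q := ⟨_, rfl⟩
  obtain ⟨w', hw'⟩ : ∃ w' : G ⧸ R, w' = g' * q' * g'⁻¹ * q'⁻¹ := ⟨_, rfl⟩
  have hπw : (QuotientGroup.mk' R) (g * q * g⁻¹ * q⁻¹) = w' := by
    rw [hw', hg', hq', map_mul, map_mul, map_mul, map_inv, map_inv]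
  have hcomm : g' * w' = w' * g' := by
    have h0 := (hker _).mpr hc
    rw [map_mul, map_mul, map_mul, map_inv, map_inv, hπw, ← hg'] at h0
    have h2 : g' * w' * g'⁻¹ = w' := mul_inv_eq_one.mp h0
    calc g' * w' = g' * w' * g'⁻¹ * g' := by group
      _ = w' * g' := by rw [h2]
  have hconj : ∀ m : ℕ, g' ^ m * q' * (g' ^ m)⁻¹ = w' ^ m * q' := by
    intro m
    induction m with
    | zero => simp
    | succ m ih =>
      have hc2 : Commute g' (w' ^ m) := (show Commute g' w' from hcomm).pow_right m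
      calc g' ^ (m + 1) * q' * (g' ^ (m + 1))⁻¹
          = g' * (g' ^ m * q' * (g' ^ m)⁻¹) * g'⁻¹ := by rw [pow_succ']; group
        _ = g' * (w' ^ m * q') * g'⁻¹ := by rw [ih]
        _ = (g' * w' ^ m) * q' * g'⁻¹ := by group
        _ = (w' ^ m * g') * q' * g'⁻¹ := by rw [hc2.eq]
        _ = w' ^ m * (g' * q' * g'⁻¹ * q'⁻¹) * q' := by group
        _ = w' ^ m * w' * q' := by rw [← hw']
        _ = w' ^ (m + 1) * q' := by rw [pow_succ]
  have h1 : w' ^ (orderOf g) = 1 := by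
    have hg1 : g' ^ (orderOf g) = 1 := by
      rw [hg', ← map_pow, pow_orderOf_eq_one, map_one]
    have h3 := hconj (orderOf g)
    rw [hg1, inv_one, one_mul, mul_one] at h3
    have h4 : w' ^ orderOf g * q' = 1 * q' := by rw [one_mul]; exact h3.symm
    exact mul_right_cancel h4
  have h2 : w' ^ (p ^ k) = 1 := by
    rw [← hπw, ← map_pow]; exact (hker _).mpr hk
  have hd : orderOf w' ∣ Nat.gcd (orderOf g) (p ^ k) :=
    Nat.dvd_gcd (orderOf_dvd_of_pow_eq_one h1) (orderOf_dvd_of_pow_eq_one h2)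
  have hco : Nat.gcd (orderOf g) (p ^ k) = 1 := Nat.Coprime.pow_right k hg
  rw [hco] at hd
  have hw1 : w' = 1 := orderOf_eq_one_iff.mp (Nat.dvd_one.mp hd)
  rw [← hπw] at hw1
  exact (hker _).mp hw1

end Cfsg.Agent.Helper25.NCM
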