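import Mathlib
import Cfsg.Agent.Lib.NCM.NCMBasic

/-!
# S5121 farm (design helper25), piece NCM-M2CONJ (SHORT): `M2` is normal in `G`.

RECIPE. `rw [h.mem_M2_iff] at hm ⊢`; `intro q hq`; `q' := g⁻¹ * q * g⁻¹⁻¹ ∈ pCore p G` (`Q_conj_mem p g⁻¹ hq`); `hm q' _ : m q' m⁻¹ q'⁻¹ ∈ R0`;
`h.R0_conj g this : g * (m * q' * m⁻¹ * q'⁻¹) * g⁻¹ ∈ R0` and this element equals `g * m * g⁻¹ * q * (g * m * g⁻¹)⁻¹ * q⁻¹` (`group`; use `have e : … = … := by group; rwa [e] at this`).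
Keep the statement, name, namespace exactly (you may add imports). Aux names: prefix `ncmm2conj_`.
-/

set_option autoImplicit false

namespace Cfsg.Agent.Helper25.NCM

open Cfsg Cfsg.FusionSystem Cfsg.Agent.Helper25

variable {G : Type*} [Group G] [Finite G] {p : ℕ} [Fact p.Prime] {S : Sylow p G} {T : Subgroup G}
  {E : FusionSystem T}

theorem Hyp.M2_conj (h : Hyp p S T E) (g : G) {m : G} (hm : m ∈ M2 p T) :
    g * m * g⁻¹ ∈ M2 p T := by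
  rw [h.mem_M2_iff] at hm ⊢
  intro q hq
  have hq' : g⁻¹ * q * g⁻¹⁻¹ ∈ pCore p G := Q_conj_mem p g⁻¹ hq
  have h1 := hm _ hq'
  have h2 := h.R0_conj g h1
  have e : g * (m * (g⁻¹ * q * g⁻¹⁻¹) * m⁻¹ * (g⁻¹ * q * g⁻¹⁻¹)⁻¹) * g⁻¹ =
      g * m * g⁻¹ * q * (g * m * g⁻¹)⁻¹ * q⁻¹ := by group
  rwa [e] at h2

end Cfsg.Agent.Helper25.NCM
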