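import Mathlib
import Cfsg.Agent.Lib.NCM.NCMBasic
import Cfsg.Agent.Lib.Helper25.FusionInvariant

/-!
# S5121 farm (design helper25), piece NCM-MPCONJ (MEDIUM): `MP E P` is normalized by every `g ∈ G` normalizing `P` (strong invariance).

RECIPE. `hSI : StrongInv F E := Helper25.strongInv_of_isInvariantIn F E h.inv` (`Lib/Helper25/FusionInvariant.lean:310`, `F := groupFusionSystem ↑S`; check the argument order there).
KEY CLAIM (prove as `have key : ∀ m : G, m ∈ normalizer P → conjHom P m ∈ E.Hom P → conjHom P (g * m * g⁻¹) ∈ E.Hom P`):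
`ψ := conjHom P g ∈ F.Hom P` (`⟨hPT.trans h.hTS, fun x => h.hTS (hPT (hg x x.2)), g, fun x => rfl⟩`). Apply `hSI P P le_rfl hPT (conjHom P m) hm (fun x => m x m⁻¹ ∈ P from normalizer) ψ hψ`:
`χ ∈ E.Hom ((P.subgroupOf P).map ψ)` with `χ ⟨ψ (inclusion x), _⟩ = ψ ⟨m x m⁻¹, _⟩ = g m x m⁻¹ g⁻¹`. The source is `P`: `hP' : (P.subgroupOf P).map ψ = P`
(`ext y`: `y = g x g⁻¹` with `x ∈ P` ⟺ `y ∈ P`, using `hg`, `hgi`). Transport: `Helper25.hom_transport E hP'.symm hχ : χ.comp (inclusion _) ∈ E.Hom P`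
(`Lib/Helper25/Fusion.lean`), and this map equals `conjHom P (g * m * g⁻¹)` (`MonoidHom.ext`: for `y : P`, `x := g⁻¹ y g ∈ P`, `y = ψ x`, so the value is `g m x m⁻¹ g⁻¹ = (g m g⁻¹) y (g m g⁻¹)⁻¹`; `group`; `Helper25.hom_congr_val` to rewrite the argument of `χ`).
THEN: `g * m * g⁻¹ ∈ normalizer P` (product of three elements of the normalizer; `g ∈ normalizer P` from `hg`, `hgi` via `Subgroup.mem_normalizer_iff`/`Helper25.mem_normalizer_of_forall`),
`key m hm.1 hm.2.1` and, since `(g * m * g⁻¹)⁻¹ = g * m⁻¹ * g⁻¹` (`group`), `key m⁻¹ (inv_mem hm.1) hm.2.2`.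
Keep the statement, name, namespace exactly (you may add imports). Aux names: prefix `ncmmpconj_`.
-/

set_option autoImplicit false

namespace Cfsg.Agent.Helper25.NCM

open Cfsg Cfsg.FusionSystem Cfsg.Agent.Helper25

variable {G : Type*} [Group G] {p : ℕ} [Fact p.Prime] {S : Sylow p G} {T : Subgroup G}
  {E : FusionSystem T}

theorem Hyp.MP_conj (h : Hyp p S T E) {P : Subgroup G} (hPT : P ≤ T) {g : G}
    (hg : ∀ x ∈ P, g * x * g⁻¹ ∈ P) (hgi : ∀ x ∈ P, g⁻¹ * x * g ∈ P) {m : G}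
    (hm : m ∈ MP E P hPT) : g * m * g⁻¹ ∈ MP E P hPT := by
  have hSI : StrongInv (groupFusionSystem (S : Subgroup G)) E := strongInv_of_isInvariantIn h.inv
  have hψ : conjHom P g ∈ (groupFusionSystem (S : Subgroup G)).Hom P :=
    ⟨hPT.trans h.hTS, fun x => h.hTS (hPT (hg x x.2)), g, fun x => rfl⟩
  have hP' : (P.subgroupOf P).map (conjHom P g) = P := by
    ext y
    constructor
    · rintro ⟨x, -, rfl⟩
      exact hg x x.2
    · intro hy
      refine ⟨⟨g⁻¹ * y * g, hgi y hy⟩, Subgroup.mem_subgroupOf.mpr (hgi y hy), ?_⟩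
      show g * (g⁻¹ * y * g) * g⁻¹ = y
      group
  have key : ∀ m : G, m ∈ Subgroup.normalizer (P : Set G) → conjHom P m ∈ E.Hom P →
      conjHom P (g * m * g⁻¹) ∈ E.Hom P := by
    intro m hmN hmE
    have hmP : ∀ x : P, conjHom P m x ∈ P := fun x =>
      (Subgroup.mem_normalizer_iff.mp hmN x).mp x.2
    obtain ⟨χ, hχ, hχv⟩ := hSI P P le_rfl hPT (conjHom P m) hmE hmP (conjHom P g) hψ
    have h1 := hom_transport E hP'.symm hχ
    have e : conjHom P (g * m * g⁻¹) = χ.comp (Subgroup.inclusion hP'.symm.le) := by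
      apply MonoidHom.ext
      intro y
      have hx : g⁻¹ * (y : G) * g ∈ P := hgi y y.2
      have hmem : conjHom P g (Subgroup.inclusion le_rfl (⟨g⁻¹ * (y : G) * g, hx⟩ : P)) ∈
          (P.subgroupOf P).map (conjHom P g) := by
        rw [hP']
        exact hg _ hx
      have hv := hχv ⟨_, hx⟩ hmem
      have hyy : (y : G) = conjHom P g (Subgroup.inclusion le_rfl (⟨g⁻¹ * (y : G) * g, hx⟩ : P)) := by
        show (y : G) = g * (g⁻¹ * (y : G) * g) * g⁻¹
        group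
      have e1 : (χ.comp (Subgroup.inclusion hP'.symm.le)) y =
          χ ⟨conjHom P g (Subgroup.inclusion le_rfl (⟨g⁻¹ * (y : G) * g, hx⟩ : P)), hmem⟩ :=
        hom_congr_val χ _ _ hyy
      rw [e1, hv]
      show g * m * g⁻¹ * (y : G) * (g * m * g⁻¹)⁻¹ = g * (m * (g⁻¹ * (y : G) * g) * m⁻¹) * g⁻¹
      group
    rw [e]
    exact h1
  obtain ⟨hmN, hmE, hmE'⟩ := hm
  have hgN : g ∈ Subgroup.normalizer (P : Set G) := by
    rw [Subgroup.mem_normalizer_iff]
    intro x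
    constructor
    · exact hg x
    · intro hx
      have h2 := hgi _ hx
      have e : g⁻¹ * (g * x * g⁻¹) * g = x := by group
      rwa [e] at h2
  refine ⟨mul_mem (mul_mem hgN hmN) (inv_mem hgN), key m hmN hmE, ?_⟩
  have e : (g * m * g⁻¹)⁻¹ = g * m⁻¹ * g⁻¹ := by group
  rw [e]
  exact key m⁻¹ (inv_mem hmN) hmE'

end Cfsg.Agent.Helper25.NCM
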