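import Mathlib
import Cfsg.Agent.Lib.NCM.NCMBasic
import Cfsg.Agent.Lib.Helper25.FusionRecept
import Cfsg.Agent.Lib.Helper25.FusionInvariant

/-!
# S5121 farm (design helper25), piece NCM-MPIFF (SHORT-MEDIUM): membership in `MP E P` for `P` weakly closed in `E`.

RECIPE. (→) `fun hg => hg.2.1` (`mem_MP`). (←) Given `hφ : conjHom P g ∈ E.Hom P`; `hr := hwc _ hφ : (conjHom P g).range = P`.
* `g x g⁻¹ ∈ P` for `x ∈ P` (it is `conjHom P g ⟨x,_⟩ ∈ range = P`), and `g⁻¹ y g ∈ P` for `y ∈ P` (`y ∈ range`: `y = g x g⁻¹`, so `g⁻¹ y g = x`);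
  so `g ∈ normalizer P` (`Subgroup.mem_normalizer_iff`; or `Helper25.mem_normalizer_of_forall` in `Lib/Helper25/FusionRecept.lean:17`).
* inverse: `obtain ⟨ψ, hψ, hinv, -⟩ := Helper25.exists_inv E hφ hr` (`Lib/Helper25/Fusion.lean`): `ψ ∈ E.Hom P`, `ψ ⟨conjHom P g x, _⟩ = x`.
  Show `conjHom P g⁻¹ = ψ` (`MonoidHom.ext`): for `y : P`, `x := ⟨g⁻¹ * y * g, _⟩ : P`, `conjHom P g x = y` (`Subtype.ext`-free: values in `G`),
  so `ψ y = ψ ⟨conjHom P g x, _⟩ = x = g⁻¹ y g⁻¹⁻¹` (use `Helper25.hom_congr_val` (`Lib/Helper25/FusionInvariant.lean:27`) to rewrite the argument of `ψ`).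
Keep the statement, name, namespace exactly (you may add imports). Aux names: prefix `ncmmpiff_`.
-/

set_option autoImplicit false

namespace Cfsg.Agent.Helper25.NCM

open Cfsg Cfsg.FusionSystem Cfsg.Agent.Helper25

variable {G : Type*} [Group G] {p : ℕ} [Fact p.Prime] {S : Sylow p G} {T : Subgroup G}
  {E : FusionSystem T}

theorem mem_MP_iff {P : Subgroup G} (hPT : P ≤ T)
    (hwc : ∀ φ ∈ E.Hom P, φ.range = P) {g : G} :
    g ∈ MP E P hPT ↔ conjHom P g ∈ E.Hom P := by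
  constructor
  · intro hg
    exact hg.2.1
  · intro hφ
    have hr : (conjHom P g).range = P := hwc _ hφ
    have h1 : ∀ x ∈ P, g * x * g⁻¹ ∈ P := by
      intro x hx
      have : conjHom P g ⟨x, hx⟩ ∈ (conjHom P g).range := ⟨⟨x, hx⟩, rfl⟩
      rw [hr] at this
      exact this
    have h2 : ∀ y ∈ P, g⁻¹ * y * g ∈ P := by
      intro y hy
      have hy' : y ∈ (conjHom P g).range := by rw [hr]; exact hy
      obtain ⟨x, hx⟩ := hy'
      rw [conjHom_apply] at hx
      have e : g⁻¹ * y * g = x := by rw [← hx]; group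
      rw [e]
      exact x.2
    have hN : g ∈ Subgroup.normalizer ((P : Subgroup G) : Set G) :=
      mem_normalizer_of_forall h1 h2
    refine ⟨hN, hφ, ?_⟩
    obtain ⟨ψ, hψ, hinv, -⟩ := exists_inv E hφ hr
    have heq : conjHom P g⁻¹ = ψ := by
      ext y
      have hxP : g⁻¹ * (y : G) * g ∈ P := h2 y y.2
      have hval : conjHom P g ⟨g⁻¹ * (y : G) * g, hxP⟩ = (y : G) := by
        rw [conjHom_apply]
        group
      have h3 := hinv ⟨g⁻¹ * (y : G) * g, hxP⟩ (by rw [hval]; exact y.2)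
      have h4 := hom_congr_val ψ (by rw [hval]; exact y.2 : conjHom P g ⟨g⁻¹ * (y : G) * g, hxP⟩ ∈ P)
        y.2 hval
      rw [h4] at h3
      rw [conjHom_apply, inv_inv]
      exact h3.symm
    rw [heq]
    exact hψ

end Cfsg.Agent.Helper25.NCM
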