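import Mathlib
import Cfsg.Agent.Lib.NCM.NCMBasic

/-!
# S5121 farm (design helper25), pieces NCM-WCR and NCM-WCT (SHORT): `R0` and `T` are weakly closed in `E`.

NCM-WCR `Hyp.wc_R0`. RECIPE. `obtain ⟨g, hg⟩ := h.hom_conj hφ` (`φ x = g x g⁻¹`). `ext y`; `MonoidHom.mem_range`.
(⊆) `φ x = g x g⁻¹ ∈ R0` by `h.R0_conj g x.2`. (⊇) for `y ∈ R0`: `x := g⁻¹ * y * g⁻¹⁻¹ ∈ R0` (`h.R0_conj g⁻¹ hy`), `φ ⟨x, _⟩ = g x g⁻¹ = y` (`rw [hg]; group`/`simp [mul_assoc]`).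

NCM-WCT `Hyp.wc_T`. RECIPE. `φ.range ≤ T` (`(E.le_of_mem hφ).2`), `φ` injective (`E.injective_of_mem hφ`), `T` finite (`inferInstance` from `[Finite G]`):
`Nat.card φ.range = Nat.card T` (`Nat.card_congr (MonoidHom.ofInjective (E.injective_of_mem hφ)).toEquiv.symm` or `Nat.card_range_of_injective`),
then `Subgroup.eq_of_le_of_card_ge`.
Keep the statements, names, namespace exactly (you may add imports). Aux names: prefix `ncmwc_`.
-/

set_option autoImplicit false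

namespace Cfsg.Agent.Helper25.NCM

open Cfsg Cfsg.FusionSystem Cfsg.Agent.Helper25

variable {G : Type*} [Group G] [Finite G] {p : ℕ} [Fact p.Prime] {S : Sylow p G} {T : Subgroup G}
  {E : FusionSystem T}

theorem Hyp.wc_R0 (h : Hyp p S T E) : ∀ φ ∈ E.Hom (R0 p T), φ.range = R0 p T := by
  intro φ hφ
  obtain ⟨g, hg⟩ := h.hom_conj hφ
  ext y
  rw [MonoidHom.mem_range]
  constructor
  · rintro ⟨x, rfl⟩
    rw [hg]
    exact h.R0_conj g x.2
  · intro hy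
    refine ⟨⟨g⁻¹ * y * g⁻¹⁻¹, h.R0_conj g⁻¹ hy⟩, ?_⟩
    rw [hg]
    show g * (g⁻¹ * y * g⁻¹⁻¹) * g⁻¹ = y
    group

theorem Hyp.wc_T (h : Hyp p S T E) : ∀ φ ∈ E.Hom T, φ.range = T := by
  intro φ hφ
  have hle : φ.range ≤ T := by
    rintro _ ⟨x, rfl⟩
    exact (E.le_of_mem hφ).2 x
  apply Subgroup.eq_of_le_of_card_ge hle
  rw [Nat.card_congr (MonoidHom.ofInjective (E.injective_of_mem hφ)).toEquiv]

omit [Finite G] in
/-- A subgroup of `T` that is weakly closed in `E` is fully automized in `E`. -/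
theorem Hyp.fullyAutomized_of_wc (h : Hyp p S T E) {P : Subgroup G} (hPT : P ≤ T)
    (hwc : ∀ φ ∈ E.Hom P, φ.range = P) : E.IsFullyAutomized p P := by
  obtain ⟨Q', ⟨φ, hφ, rfl⟩, hfa, -⟩ := h.Esat P hPT
  rwa [hwc φ hφ] at hfa

omit [Finite G] in
/-- A subgroup of `T` that is weakly closed in `E` is receptive in `E`. -/
theorem Hyp.receptive_of_wc (h : Hyp p S T E) {P : Subgroup G} (hPT : P ≤ T)
    (hwc : ∀ φ ∈ E.Hom P, φ.range = P) : E.IsReceptive P := by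
  obtain ⟨Q', ⟨φ, hφ, rfl⟩, -, hrec⟩ := h.Esat P hPT
  rwa [hwc φ hφ] at hrec

end Cfsg.Agent.Helper25.NCM
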