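import Mathlib
import Cfsg.Agent.Lib.NCM.NCMBasic
import Cfsg.Agent.Lib.NCM.NCMWc
import Cfsg.Agent.Lib.NCM.NCMMPIff
import Cfsg.Agent.Lib.NCM.NCMMPConj
import Cfsg.Agent.Lib.NCM.NCMM2Conj

/-!
# S5121 farm (design helper25): structure of `M = M1 ∩ M2` (assembly, helper25).
-/

set_option autoImplicit false

namespace Cfsg.Agent.Helper25.NCM

open Cfsg Cfsg.FusionSystem Cfsg.Agent.Helper25

variable {G : Type*} [Group G] [Finite G] {p : ℕ} [Fact p.Prime] {S : Sylow p G} {T : Subgroup G}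
  {E : FusionSystem T}

theorem Hyp.mem_M1_iff (h : Hyp p S T E) {g : G} :
    g ∈ M1 p E ↔ conjHom (R0 p T) g ∈ E.Hom (R0 p T) :=
  mem_MP_iff (R0_le_T p T) h.wc_R0

theorem Hyp.mem_MT_iff (h : Hyp p S T E) {g : G} :
    g ∈ MP E T le_rfl ↔ conjHom T g ∈ E.Hom T :=
  mem_MP_iff le_rfl h.wc_T

theorem Hyp.T_le_M1 (h : Hyp p S T E) : T ≤ M1 p E := fun _ ht =>
  h.mem_M1_iff.mpr (E.conj_mem (R0_le_T p T) ht)

theorem Hyp.T_le_M (h : Hyp p S T E) : T ≤ M p E := le_inf h.T_le_M1 h.T_le_M2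

theorem Hyp.M1_conj (h : Hyp p S T E) (g : G) {m : G} (hm : m ∈ M1 p E) : g * m * g⁻¹ ∈ M1 p E :=
  h.MP_conj (R0_le_T p T) (fun _ hx => h.R0_conj g hx)
    (fun x hx => by simpa using h.R0_conj g⁻¹ hx) hm

theorem Hyp.M_conj (h : Hyp p S T E) (g : G) {m : G} (hm : m ∈ M p E) : g * m * g⁻¹ ∈ M p E :=
  ⟨h.M1_conj g hm.1, h.M2_conj g hm.2⟩

theorem Hyp.M_normal (h : Hyp p S T E) : (M p E).Normal := ⟨fun _ hm g => h.M_conj g hm⟩

/-- `T`-restriction: an element inducing an `E`-automorphism on `T` induces one on `R0`. -/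
theorem Hyp.MT_le_M1 (h : Hyp p S T E) : MP E T le_rfl ≤ M1 p E := by
  intro g hg
  rw [h.mem_M1_iff]
  have h1 := restrict_mem E (R0_le_T p T) (h.mem_MT_iff.mp hg)
  have e : (conjHom T g).comp (Subgroup.inclusion (R0_le_T p T)) = conjHom (R0 p T) g := by
    ext x; rfl
  rwa [e] at h1

end Cfsg.Agent.Helper25.NCM
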