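import Mathlib
import Cfsg.Agent.Lib.NCM.NCMWc
import Cfsg.Agent.Lib.Helper25.FusionAut
import Cfsg.Agent.Lib.Helper25.SylowIn
import Cfsg.Agent.Lib.Helper25.FusionMorph

/-!
# S5121 farm (design helper25), piece NCM-SYL (MEDIUM): `Aut_S(P) ∩ Aut_E(P) = Aut_T(P)` for `P ≤ T` weakly closed in `E`.

If `s ∈ S` and conjugation by `s` on `P` is a map of `E`, then it is induced by some `t ∈ T`.

RECIPE. `hfa := h.fullyAutomized_of_wc hPT hwc`; `hsyl := (Helper25.isFullyAutomized_iff E p hPT).mp hfa : IsSylowIn p (autInducedBy T P) (E.autGroup P)`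
(`Lib/Helper25/FusionAut.lean:96`; `IsSylowIn p H K := H ≤ K ∧ IsPGroup p H ∧ ∀ L ≤ K, IsPGroup p L → H ≤ L → L = H`, `Lib/Helper25/SylowIn.lean`).
`s` normalizes `P`: the range of `conjHom P s` is `P` (`hwc _ hsE`), so `s x s⁻¹ ∈ P` and `s⁻¹ y s ∈ P` (as in NCM-MPIFF). Build `α : MulAut P` with `(α x : G) = s x s⁻¹`
(e.g. `Subgroup.normalizerMonoidHom P ⟨s, _⟩`, `Helper25.normalizerMonoidHom_apply_coe` in `Lib/Helper25/FusionSylow2.lean:30`; or `MulEquiv.ofBijective`).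
`α ∈ E.autGroup P` (`(Helper25.mem_autGroup_iff E hPT α).mpr`, the map `P.subtype.comp α.toMonoidHom` equals `conjHom P s`, `MonoidHom.ext`) and
`α ∈ autInducedBy ↑S P` (`(Helper25.mem_autInducedBy_iff α).mpr ⟨s, hs, fun x => _⟩`).
`L := autInducedBy ↑S P ⊓ E.autGroup P`: `L ≤ E.autGroup P`, `IsPGroup p L` (`(Helper25.isPGroup_autInducedBy S.2 P).to_le inf_le_left`, `Lib/Helper25/FusionAut.lean:72`),
`autInducedBy T P ≤ L` (`le_inf`: monotone in the inducing subgroup via `mem_autInducedBy_iff` + `h.hTS`; and `hsyl.1`). So `L = autInducedBy T P` (`hsyl.2.2 L …`),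
`α ∈ autInducedBy T P`, `(mem_autInducedBy_iff α).mp` gives `t ∈ T` with `(α x : G) = t x t⁻¹`; conclude for `x ∈ P` with `x' := ⟨x, hx⟩`.
Keep the statement, name, namespace exactly (you may add imports). Aux names: prefix `ncmsyl_`.
-/

set_option autoImplicit false

namespace Cfsg.Agent.Helper25.NCM

open Cfsg Cfsg.FusionSystem Cfsg.Agent.Helper25

variable {G : Type*} [Group G] [Finite G] {p : ℕ} [Fact p.Prime] {S : Sylow p G} {T : Subgroup G}
  {E : FusionSystem T}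

theorem Hyp.exists_T_conj (h : Hyp p S T E) {P : Subgroup G} (hPT : P ≤ T)
    (hwc : ∀ φ ∈ E.Hom P, φ.range = P) {s : G} (hs : s ∈ (S : Subgroup G))
    (hsE : conjHom P s ∈ E.Hom P) : ∃ t ∈ T, ∀ x ∈ P, s * x * s⁻¹ = t * x * t⁻¹ := by
  obtain ⟨α, hαE, hαv⟩ := aut_of_range_eq E hsE (hwc _ hsE)
  have hαS : α ∈ autInducedBy (S : Subgroup G) P :=
    (mem_autInducedBy_iff α).mpr ⟨s, hs, fun x => hαv x⟩
  have hfa := h.fullyAutomized_of_wc hPT hwc
  have hsyl := (isFullyAutomized_iff E p hPT).mp hfa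
  have hLle : autInducedBy (S : Subgroup G) P ⊓ E.autGroup P ≤ E.autGroup P := inf_le_right
  have hLp : IsPGroup p ↥(autInducedBy (S : Subgroup G) P ⊓ E.autGroup P) :=
    (isPGroup_autInducedBy S.2 P).to_le inf_le_left
  have hTL : autInducedBy T P ≤ autInducedBy (S : Subgroup G) P ⊓ E.autGroup P := by
    refine le_inf ?_ hsyl.1
    intro β hβ
    obtain ⟨t, ht, htv⟩ := (mem_autInducedBy_iff β).mp hβ
    exact (mem_autInducedBy_iff β).mpr ⟨t, h.hTS ht, htv⟩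
  have hL := hsyl.2.2 _ hLle hLp hTL
  have hαT : α ∈ autInducedBy T P := by
    rw [← hL]
    exact ⟨hαS, hαE⟩
  obtain ⟨t, ht, htv⟩ := (mem_autInducedBy_iff α).mp hαT
  refine ⟨t, ht, fun x hx => ?_⟩
  rw [← htv ⟨x, hx⟩, hαv ⟨x, hx⟩]
  rfl

end Cfsg.Agent.Helper25.NCM
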