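import Mathlib
import Cfsg.Agent.Lib.NCM.NCMM
import Cfsg.Agent.Lib.NCM.NCMSyl

/-!
# S5121 farm (design helper25), piece NCM-TC (MEDIUM): `[n, Q] ⊆ T · C_S(T)` when `n` induces an element of `Aut_E(T)` on `T`.

RECIPE. `w := n * q * n⁻¹ * q⁻¹`. (1) `w ∈ pCore p G` (`Subgroup.mul_mem _ (Q_conj_mem p n hq) (Subgroup.inv_mem _ hq)`), so `w ∈ S` (`Q_le_S S`).
(2) `w ∈ MP E T le_rfl`: `w = n * (q * n⁻¹ * q⁻¹)` (`group`), `n ∈ MP` (`hn`), `n⁻¹ ∈ MP` (`Subgroup.inv_mem`), and `q * n⁻¹ * q⁻¹ ∈ MP` by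
`h.MP_conj le_rfl (g := q) (fun x hx => h.T_conj_S (Q_le_S S hq) hx) (fun x hx => by simpa using h.T_conj_S (Subgroup.inv_mem _ (Q_le_S S hq)) hx) (Subgroup.inv_mem _ hn)`;
`Subgroup.mul_mem`. Hence `conjHom T w ∈ E.Hom T` (`h.mem_MT_iff.mp`).
(3) `obtain ⟨t, ht, htx⟩ := h.exists_T_conj le_rfl h.wc_T hwS hwE` (`w x w⁻¹ = t x t⁻¹` for `x ∈ T`). `c := t⁻¹ * w`: `c ∈ S` (`h.hTS ht`), and `c` centralizes `T`
(`Subgroup.mem_centralizer_iff`: for `x ∈ T`, `x * c = c * x` from `t⁻¹ (w x w⁻¹) t = x`; `group`-manipulate `htx x hx`). So `c ∈ centralizerIn ↑S T = ↑S ⊓ centralizer T`, and `w = t * c` (`group`).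
Keep the statement, name, namespace exactly (you may add imports). Aux names: prefix `ncmtc_`.
-/

set_option autoImplicit false

namespace Cfsg.Agent.Helper25.NCM

open Cfsg Cfsg.FusionSystem Cfsg.Agent.Helper25

variable {G : Type*} [Group G] [Finite G] {p : ℕ} [Fact p.Prime] {S : Sylow p G} {T : Subgroup G}
  {E : FusionSystem T}

theorem Hyp.comm_mem_TC (h : Hyp p S T E) {n q : G} (hn : n ∈ MP E T le_rfl)
    (hq : q ∈ pCore p G) :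
    ∃ t ∈ T, ∃ c ∈ centralizerIn (S : Subgroup G) T, n * q * n⁻¹ * q⁻¹ = t * c := by
  have hwQ : n * q * n⁻¹ * q⁻¹ ∈ pCore p G :=
    Subgroup.mul_mem _ (Q_conj_mem p n hq) (Subgroup.inv_mem _ hq)
  have hwS : n * q * n⁻¹ * q⁻¹ ∈ (S : Subgroup G) := Q_le_S S hwQ
  have hqS : q ∈ (S : Subgroup G) := Q_le_S S hq
  have h1 : q * n⁻¹ * q⁻¹ ∈ MP E T le_rfl :=
    h.MP_conj le_rfl (g := q) (fun x hx => h.T_conj_S hqS hx)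
      (fun x hx => by simpa using h.T_conj_S (Subgroup.inv_mem _ hqS) hx) (Subgroup.inv_mem _ hn)
  have hwM : n * q * n⁻¹ * q⁻¹ ∈ MP E T le_rfl := by
    have e : n * q * n⁻¹ * q⁻¹ = n * (q * n⁻¹ * q⁻¹) := by group
    rw [e]
    exact Subgroup.mul_mem _ hn h1
  have hwE : conjHom T (n * q * n⁻¹ * q⁻¹) ∈ E.Hom T := h.mem_MT_iff.mp hwM
  obtain ⟨t, ht, htx⟩ := h.exists_T_conj le_rfl h.wc_T hwS hwE
  refine ⟨t, ht, t⁻¹ * (n * q * n⁻¹ * q⁻¹), ?_, by group⟩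
  rw [mem_centralizerIn]
  refine ⟨Subgroup.mul_mem _ (Subgroup.inv_mem _ (h.hTS ht)) hwS, fun x hx => ?_⟩
  have h2 := htx x hx
  -- `w x w⁻¹ = t x t⁻¹`  ⟹  `x (t⁻¹ w) = (t⁻¹ w) x`
  have h3 : t⁻¹ * ((n * q * n⁻¹ * q⁻¹) * x * (n * q * n⁻¹ * q⁻¹)⁻¹) * t = x := by
    rw [h2]; group
  calc x * (t⁻¹ * (n * q * n⁻¹ * q⁻¹))
      = (t⁻¹ * ((n * q * n⁻¹ * q⁻¹) * x * (n * q * n⁻¹ * q⁻¹)⁻¹) * t) *
          (t⁻¹ * (n * q * n⁻¹ * q⁻¹)) := by rw [h3]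
    _ = t⁻¹ * (n * q * n⁻¹ * q⁻¹) * x := by group

end Cfsg.Agent.Helper25.NCM
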