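import Mathlib
import Cfsg.Agent.Lib.NCM.NCMTC
import Cfsg.Agent.Lib.NCM.NCMStab

/-!
# S5121 farm (design helper25), piece NCM-M2EXT (MEDIUM): a `p'`-element inducing an element of `Aut_E(T)` and satisfying the extension condition acts trivially on `Q / R0`.

RECIPE. `rw [h.mem_M2_iff]`; `intro q hq`; `w := n * q * n⁻¹ * q⁻¹`; `hwQ : w ∈ pCore p G` (as in NCM-TC (1)).
`obtain ⟨t, ht, c, hc, hw⟩ := h.comm_mem_TC hn hq` (`w = t * c`, `c ∈ centralizerIn ↑S T`, i.e. `c ∈ S` and `c ∈ centralizer T`).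
`n` normalizes `T`: `hn.1 : n ∈ normalizer T` (`mem_MP`), `Subgroup.mem_normalizer_iff`.
CLAIM `n * w * n⁻¹ * w⁻¹ ∈ R0 p T` (`= T ⊓ pCore p G`):
* in `pCore p G`: `Q_conj_mem p n hwQ`, `Subgroup.inv_mem`, `Subgroup.mul_mem`;
* in `T`: `z := c⁻¹ * (n * c * n⁻¹) ∈ T ⊓ centralizer T` (`hnC c hc`); `c * z * c⁻¹ = z` since `c ∈ centralizer T` and `z ∈ T` (`Subgroup.mem_centralizer_iff.mp hc.2 z hz.1`);
  identity (`group` after `rw [hw]`): `n * (t * c) * n⁻¹ * (t * c)⁻¹ = (n * t * n⁻¹) * (c * (c⁻¹ * (n * c * n⁻¹)) * c⁻¹) * t⁻¹`, middle factor `= z ∈ T`, first `∈ T` (normalizer), last `∈ T`.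
APPLY `haveI := h.R0_normal; stab p (R0 p T) n q hco ⟨k, _⟩ hclaim` where `w ^ p ^ k = 1 ∈ R0` from `Q_isPGroup p G ⟨w, hwQ⟩` (`congrArg Subtype.val`, `Subgroup.one_mem`).
Keep the statement, name, namespace exactly (you may add imports). Aux names: prefix `ncmm2ext_`.
-/

set_option autoImplicit false

namespace Cfsg.Agent.Helper25.NCM

open Cfsg Cfsg.FusionSystem Cfsg.Agent.Helper25

variable {G : Type*} [Group G] [Finite G] {p : ℕ} [Fact p.Prime] {S : Sylow p G} {T : Subgroup G}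
  {E : FusionSystem T}

theorem Hyp.mem_M2_of_ext (h : Hyp p S T E) {n : G} (hco : (orderOf n).Coprime p)
    (hn : n ∈ MP E T le_rfl)
    (hnC : ∀ c ∈ centralizerIn (S : Subgroup G) T,
      c⁻¹ * (n * c * n⁻¹) ∈ T ⊓ Subgroup.centralizer (T : Set G)) : n ∈ M2 p T := by
  rw [h.mem_M2_iff]
  intro q hq
  have hwQ : n * q * n⁻¹ * q⁻¹ ∈ pCore p G :=
    Subgroup.mul_mem _ (Q_conj_mem p n hq) (Subgroup.inv_mem _ hq)
  obtain ⟨t, ht, c, hc, hw⟩ := h.comm_mem_TC hn hq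
  have hnN : n ∈ Subgroup.normalizer ((T : Subgroup G) : Set G) := hn.1
  have hnt : n * t * n⁻¹ ∈ T := (Subgroup.mem_normalizer_iff.mp hnN t).mp ht
  have hz := hnC c hc
  have hzc : c * (c⁻¹ * (n * c * n⁻¹)) * c⁻¹ = c⁻¹ * (n * c * n⁻¹) := by
    have hcomm := Subgroup.mem_centralizer_iff.mp hc.2 _ hz.1
    rw [← hcomm]
    group
  have hclaim : n * (n * q * n⁻¹ * q⁻¹) * n⁻¹ * (n * q * n⁻¹ * q⁻¹)⁻¹ ∈ R0 p T := by
    refine Subgroup.mem_inf.mpr ⟨?_, ?_⟩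
    · rw [hw]
      have e : n * (t * c) * n⁻¹ * (t * c)⁻¹ =
          (n * t * n⁻¹) * (c * (c⁻¹ * (n * c * n⁻¹)) * c⁻¹) * t⁻¹ := by group
      rw [e, hzc]
      exact Subgroup.mul_mem _ (Subgroup.mul_mem _ hnt hz.1) (Subgroup.inv_mem _ ht)
    · exact Subgroup.mul_mem _ (Q_conj_mem p n hwQ) (Subgroup.inv_mem _ hwQ)
  haveI := h.R0_normal
  obtain ⟨k, hk⟩ := Q_isPGroup p G ⟨_, hwQ⟩
  refine stab p (R0 p T) n q hco ⟨k, ?_⟩ hclaim
  have h1 : (n * q * n⁻¹ * q⁻¹) ^ p ^ k = 1 := by simpa using congrArg Subtype.val hk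
  rw [h1]
  exact Subgroup.one_mem _

end Cfsg.Agent.Helper25.NCM
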