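import Mathlib
import Cfsg.Agent.Lib.NCM.NCMM2Ext
import Cfsg.Agent.Lib.NCM.NCMExt

/-!
# S5121 farm (design helper25): `p'`-elements of `Aut_E(T)` are induced by `O^p(M)` (assembly, helper25).
-/

set_option autoImplicit false

namespace Cfsg.Agent.Helper25.NCM

open Cfsg Cfsg.FusionSystem Cfsg.Agent.Helper25

variable {G : Type*} [Group G] [Finite G] {p : ℕ} [Fact p.Prime] {S : Sylow p G} {T : Subgroup G}
  {E : FusionSystem T}

theorem Hyp.autT_pprime_mem (h : Hyp p S T E) {α : MulAut T} (hα : α ∈ E.autGroup T)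
    (hco : (orderOf α).Coprime p) :
    ∃ n ∈ OpM p E, ∀ x : T, ((α x : T) : G) = n * (x : G) * n⁻¹ := by
  obtain ⟨n, hnco, hnT, hnC⟩ := h.exists_ext_elt hα hco
  have hαE := (mem_autGroup_iff E le_rfl α).mp hα
  have e : T.subtype.comp α.toMonoidHom = conjHom T n := by
    ext x
    exact hnT x
  rw [e] at hαE
  have hnMT : n ∈ MP E T le_rfl := h.mem_MT_iff.mpr hαE
  have hnM : n ∈ M p E := ⟨h.MT_le_M1 hnMT, h.mem_M2_of_ext hnco hnMT hnC⟩
  exact ⟨n, mem_OpM_of_coprime p E hnM hnco, hnT⟩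

end Cfsg.Agent.Helper25.NCM
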