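import Mathlib
import Cfsg.Agent.Lib.NCM.NCMBasic
import Cfsg.Agent.Lib.NCM.NCMStab

/-!
# S5121 farm (design helper25), piece NCM-D1 (SHORT-MEDIUM): a `p'`-element centralizing `R0` and `Q / R0` is trivial.

RECIPE. Claim `g ∈ centralizer Q` (`Q := pCore p G`): `Subgroup.mem_centralizer_iff`: for `q ∈ Q` show `q * g = g * q`.
`w := g * q * g⁻¹ * q⁻¹ ∈ R0` (`h2`). Apply `stab p ⊥ g q hco ⟨k, _⟩ _` (`R := ⊥`, normal instance `inferInstance`):
* `hw`: `w ∈ Q` (`R0_le_Q`), `Q` is a `p`-group (`Q_isPGroup p G`): `obtain ⟨k, hk⟩ := Q_isPGroup p G ⟨w, _⟩`, `w ^ p ^ k = 1` (`congrArg Subtype.val hk`), `Subgroup.mem_bot`;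
* `hc`: `g * w * g⁻¹ = w` by `h1 w hw`, so `g * w * g⁻¹ * w⁻¹ = 1`.
So `w = 1` (`Subgroup.mem_bot`), i.e. `g * q = q * g` (`group`-manipulate: `g * q * g⁻¹ * q⁻¹ = 1 → g * q = q * g`, e.g. `mul_inv_eq_one`, `mul_inv_eq_iff_eq_mul`).
Then `g ∈ Q` (`h.hG`), so `g ^ p ^ k = 1` for some `k` (`Q_isPGroup`), `orderOf g ∣ p ^ k` (`orderOf_dvd_of_pow_eq_one`), coprime to `p ^ k` (`hco.pow_right k`),
hence `orderOf g = 1` (`Nat.eq_one_of_self_dvd …`/`Nat.Coprime.eq_one_of_dvd`), `orderOf_eq_one_iff`.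
Keep the statement, name, namespace exactly (you may add imports). Aux names: prefix `ncmd1_`.
-/

set_option autoImplicit false

namespace Cfsg.Agent.Helper25.NCM

open Cfsg Cfsg.FusionSystem Cfsg.Agent.Helper25

variable {G : Type*} [Group G] [Finite G] {p : ℕ} [Fact p.Prime] {S : Sylow p G} {T : Subgroup G}
  {E : FusionSystem T}

theorem Hyp.eq_one_of_stab_coprime (h : Hyp p S T E) {g : G}
    (h1 : ∀ x ∈ R0 p T, g * x * g⁻¹ = x)
    (h2 : ∀ q ∈ pCore p G, g * q * g⁻¹ * q⁻¹ ∈ R0 p T)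
    (hco : (orderOf g).Coprime p) : g = 1 := by
  have hcen : g ∈ Subgroup.centralizer ((pCore p G : Subgroup G) : Set G) := by
    rw [Subgroup.mem_centralizer_iff]
    intro q hq
    have hwR : g * q * g⁻¹ * q⁻¹ ∈ R0 p T := h2 q hq
    have hwQ : g * q * g⁻¹ * q⁻¹ ∈ pCore p G := R0_le_Q p T hwR
    obtain ⟨k, hk⟩ := Q_isPGroup p G ⟨g * q * g⁻¹ * q⁻¹, hwQ⟩
    have hk' : (g * q * g⁻¹ * q⁻¹) ^ p ^ k = 1 := by
      have := congrArg Subtype.val hk
      simpa using this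
    have hw : g * q * g⁻¹ * q⁻¹ ∈ (⊥ : Subgroup G) := by
      apply stab p ⊥ g q hco ⟨k, by rw [hk']; exact Subgroup.one_mem _⟩
      rw [h1 _ hwR, mul_inv_cancel]
      exact Subgroup.one_mem _
    rw [Subgroup.mem_bot] at hw
    have : g * q * g⁻¹ = q := by
      have := congrArg (· * q) hw
      simpa using this
    calc q * g = (g * q * g⁻¹) * g := by rw [this]
      _ = g * q := by group
  have hgQ : g ∈ pCore p G := h.hG hcen
  obtain ⟨k, hk⟩ := Q_isPGroup p G ⟨g, hgQ⟩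
  have hk' : g ^ p ^ k = 1 := by
    have := congrArg Subtype.val hk
    simpa using this
  have hdvd : orderOf g ∣ p ^ k := orderOf_dvd_of_pow_eq_one hk'
  have h1' : orderOf g = 1 := Nat.Coprime.eq_one_of_dvd (hco.pow_right k) hdvd
  exact orderOf_eq_one_iff.mp h1'

end Cfsg.Agent.Helper25.NCM
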