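import Mathlib
import Cfsg.Agent.Lib.NCM.NCMBasic
import Cfsg.Agent.Lib.NCM.NCMD1

/-!
# S5121 farm (design helper25), piece NCM-D2 (MEDIUM): `C_G(R0) ∩ C_G(Q / R0) ≤ Q = O_p(G)`.

RECIPE. Let `D : Subgroup G` with carrier `{a | (∀ x ∈ R0 p T, a * x * a⁻¹ = x) ∧ ∀ q ∈ pCore p G, a * q * a⁻¹ * q⁻¹ ∈ R0 p T}`:
* one: `simp` (and `Subgroup.one_mem`); mul: first part by rewriting twice; second as in `M2` (`NCMDefs.lean`, `mul_mem'`: `a (b q b⁻¹ q⁻¹) a⁻¹ * (a q a⁻¹ q⁻¹) = (a b) q (a b)⁻¹ q⁻¹`, with `h.R0_conj a _`);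
  inv: first part: from `a x a⁻¹ = x` get `a⁻¹ x a = x`; second as in `M2` (`inv_mem'`).
* `D` is normal (`Subgroup.Normal.mk`, `conj_mem : ∀ n ∈ D, ∀ b, b * n * b⁻¹ ∈ D`): `(b n b⁻¹) x (b n b⁻¹)⁻¹ = b (n (b⁻¹ x b) n⁻¹) b⁻¹ = x` using `h.R0_conj b⁻¹ hx` (note `b⁻¹ * x * b⁻¹⁻¹`);
  `(b n b⁻¹) q (b n b⁻¹)⁻¹ q⁻¹ = b (n q' n⁻¹ q'⁻¹) b⁻¹` with `q' := b⁻¹ q b ∈ Q` (`Q_conj_mem p b⁻¹ hq`), in `R0` by `h.R0_conj b _`.
* `IsPGroup p D`: for `a ∈ D`, `obtain ⟨e, m, hm, hmeq⟩ := Nat.exists_eq_pow_mul_and_not_dvd (orderOf_pos a).ne' p (Fact.out : p.Prime).ne_one` (`orderOf a = p ^ e * m`, `¬ p ∣ m`);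
  `b := a ^ p ^ e ∈ D` has `orderOf b = m` (see `Helper10.exists_pow_mem_pResidual` in `Lib/Helper10/PResidual.lean:29` for this computation: `orderOf_pow`, `Nat.gcd_eq_right`), coprime to `p`
  (`((Nat.Prime.coprime_iff_not_dvd Fact.out).mpr hm).symm`); `h.eq_one_of_stab_coprime` (properties of `b` from `b ∈ D`) gives `a ^ p ^ e = 1`. So `⟨e, Subtype.ext _⟩`.
* `D ≤ pCore p G` by `le_Q hDnormal hDp`; `g ∈ D` by `⟨h1, h2⟩`.
Keep the statement, name, namespace exactly (you may add imports). Aux names: prefix `ncmd2_`.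
-/

set_option autoImplicit false

namespace Cfsg.Agent.Helper25.NCM

open Cfsg Cfsg.FusionSystem Cfsg.Agent.Helper25

variable {G : Type*} [Group G] [Finite G] {p : ℕ} [Fact p.Prime] {S : Sylow p G} {T : Subgroup G}
  {E : FusionSystem T}

/-- `M2` is normal in `G`. -/
theorem Hyp.ncmd2_M2_normal (h : Hyp p S T E) : (M2 p T).Normal := by
  refine ⟨fun n hn b => ?_⟩
  rw [h.mem_M2_iff] at hn ⊢
  intro q hq
  have hq' : b⁻¹ * q * b⁻¹⁻¹ ∈ pCore p G := Q_conj_mem p b⁻¹ hq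
  have h3 := h.R0_conj b (hn _ hq')
  have e : b * (n * (b⁻¹ * q * b⁻¹⁻¹) * n⁻¹ * (b⁻¹ * q * b⁻¹⁻¹)⁻¹) * b⁻¹ =
      b * n * b⁻¹ * q * (b * n * b⁻¹)⁻¹ * q⁻¹ := by group
  rwa [e] at h3

omit [Finite G] in
theorem ncmd2_conj_eq_of_mem_centralizer {R : Subgroup G} {a : G}
    (ha : a ∈ Subgroup.centralizer (R : Set G)) {x : G} (hx : x ∈ R) : a * x * a⁻¹ = x := by
  have h1 : x * a = a * x := Subgroup.mem_centralizer_iff.mp ha x hx
  rw [← h1]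
  group

theorem Hyp.mem_Q_of_stab (h : Hyp p S T E) {g : G}
    (h1 : ∀ x ∈ R0 p T, g * x * g⁻¹ = x)
    (h2 : ∀ q ∈ pCore p G, g * q * g⁻¹ * q⁻¹ ∈ R0 p T) : g ∈ pCore p G := by
  have hR0n : (R0 p T).Normal := h.R0_normal
  have hM2n : (M2 p T).Normal := h.ncmd2_M2_normal
  have hCn : (Subgroup.centralizer ((R0 p T : Subgroup G) : Set G)).Normal :=
    Subgroup.normal_centralizer
  have hDn : (Subgroup.centralizer ((R0 p T : Subgroup G) : Set G) ⊓ M2 p T).Normal :=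
    Subgroup.normal_inf_normal _ _
  have hDp : IsPGroup p ↥(Subgroup.centralizer ((R0 p T : Subgroup G) : Set G) ⊓ M2 p T) := by
    rintro ⟨a, haC, haM⟩
    have hpos : orderOf a ≠ 0 := (orderOf_pos a).ne'
    obtain ⟨e, m, hm, hgm⟩ :=
      Nat.exists_eq_pow_mul_and_not_dvd hpos p (Fact.out : p.Prime).ne_one
    have hord : orderOf (a ^ (p ^ e)) = m := by
      rw [orderOf_pow, hgm, Nat.gcd_eq_right (Dvd.intro _ rfl)]
      exact Nat.mul_div_cancel_left m (pow_pos (Fact.out : p.Prime).pos e)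
    have hco : (orderOf (a ^ (p ^ e))).Coprime p := by
      rw [hord]
      exact ((Nat.Prime.coprime_iff_not_dvd (Fact.out : p.Prime)).mpr hm).symm
    have hbC : a ^ (p ^ e) ∈ Subgroup.centralizer ((R0 p T : Subgroup G) : Set G) :=
      Subgroup.pow_mem _ haC _
    have hbM : a ^ (p ^ e) ∈ M2 p T := Subgroup.pow_mem _ haM _
    have hb1 : a ^ (p ^ e) = 1 :=
      h.eq_one_of_stab_coprime (fun x hx => ncmd2_conj_eq_of_mem_centralizer hbC hx)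
        (h.mem_M2_iff.mp hbM) hco
    exact ⟨e, Subtype.ext hb1⟩
  have hle := le_Q hDn hDp
  have hgC : g ∈ Subgroup.centralizer ((R0 p T : Subgroup G) : Set G) := by
    rw [Subgroup.mem_centralizer_iff]
    intro x hx
    have h3 := h1 x hx
    calc x * g = (g * x * g⁻¹) * g := by rw [h3]
      _ = g * x := by group
  exact hle (Subgroup.mem_inf.mpr ⟨hgC, h.mem_M2_iff.mpr h2⟩)

end Cfsg.Agent.Helper25.NCM
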