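import Mathlib
import Cfsg.Agent.Lib.NCM.NCMM
import Cfsg.Agent.Lib.NCM.NCMSyl
import Cfsg.Agent.Lib.NCM.NCMD2

/-!
# S5121 farm (design helper25), piece NCM-SM (SHORT-MEDIUM): `S ∩ M ⊆ T · Q`.

RECIPE. `hsE : conjHom (R0 p T) s ∈ E.Hom (R0 p T) := h.mem_M1_iff.mp hsM.1`.
`obtain ⟨t, ht, htx⟩ := h.exists_T_conj (R0_le_T p T) h.wc_R0 hs hsE` (`s x s⁻¹ = t x t⁻¹` for `x ∈ R0`). Put `q := t⁻¹ * s`; `s = t * q` (`group`/`mul_inv_cancel_left`).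
`q ∈ pCore p G` by `h.mem_Q_of_stab`:
* for `x ∈ R0`: `q x q⁻¹ = t⁻¹ (s x s⁻¹) t = t⁻¹ (t x t⁻¹) t = x` (`simp [mul_assoc]` after rewriting with `htx x hx`; careful with `(t⁻¹ * s)⁻¹ = s⁻¹ * t`);
* `q ∈ M2 p T` (`Subgroup.mul_mem _ (Subgroup.inv_mem _ (h.T_le_M2 ht)) hsM.2`), then `h.mem_M2_iff.mp`.
Keep the statement, name, namespace exactly (you may add imports). Aux names: prefix `ncmsm_`.
-/

set_option autoImplicit false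

namespace Cfsg.Agent.Helper25.NCM

open Cfsg Cfsg.FusionSystem Cfsg.Agent.Helper25

variable {G : Type*} [Group G] [Finite G] {p : ℕ} [Fact p.Prime] {S : Sylow p G} {T : Subgroup G}
  {E : FusionSystem T}

theorem Hyp.exists_T_Q (h : Hyp p S T E) {s : G} (hs : s ∈ (S : Subgroup G)) (hsM : s ∈ M p E) :
    ∃ t ∈ T, ∃ q ∈ pCore p G, s = t * q := by
  have hsE : conjHom (R0 p T) s ∈ E.Hom (R0 p T) := h.mem_M1_iff.mp hsM.1
  obtain ⟨t, ht, htx⟩ := h.exists_T_conj (R0_le_T p T) h.wc_R0 hs hsE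
  refine ⟨t, ht, t⁻¹ * s, ?_, by group⟩
  apply h.mem_Q_of_stab
  · intro x hx
    have h1 := htx x hx
    calc t⁻¹ * s * x * (t⁻¹ * s)⁻¹ = t⁻¹ * (s * x * s⁻¹) * t := by group
      _ = t⁻¹ * (t * x * t⁻¹) * t := by rw [h1]
      _ = x := by group
  · have hq2 : t⁻¹ * s ∈ M2 p T :=
      Subgroup.mul_mem _ (Subgroup.inv_mem _ (h.T_le_M2 ht)) hsM.2
    exact h.mem_M2_iff.mp hq2

end Cfsg.Agent.Helper25.NCM
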