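import Mathlib
import Cfsg.Agent.Lib.NCM.NCMSM

/-!
# S5121 farm (design helper25), piece NCM-FOC (SHORT-MEDIUM): the focal subgroup of `F_{S ∩ M}(M)` lies in `T`.

RECIPE. `obtain ⟨t, ht, q, hq, rfl⟩ := h.exists_T_Q hx hxM` (`x = t * q`).
* `g t g⁻¹ ∈ S`: `g * t * g⁻¹ = (g * (t * q) * g⁻¹) * (g * q⁻¹ * g⁻¹)` (`group`), first factor in `S` (`hgx`), second in `Q ≤ S` (`Q_le_S S (Q_conj_mem p g (inv_mem hq))`).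
  So `g t g⁻¹ ∈ T` (`h.strong ht _`), and `t⁻¹ * (g t g⁻¹) ∈ T`.
* `r := g * q * g⁻¹ * q⁻¹ ∈ R0 ≤ T` (`h.mem_M2_iff.mp hg.2 q hq`, `R0_le_T`).
* identity (`group`): `(t * q)⁻¹ * (g * (t * q) * g⁻¹) = q⁻¹ * (t⁻¹ * (g * t * g⁻¹)) * q * (q⁻¹ * (g * q * g⁻¹ * q⁻¹) * q)`;
  both factors are `S`-conjugates (by `q⁻¹`, `q ∈ Q ≤ S`) of elements of `T`: use `h.T_conj_S` with `s := q⁻¹` (write `q⁻¹ * y * q = q⁻¹ * y * q⁻¹⁻¹`, `inv_inv`).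
Keep the statement, name, namespace exactly (you may add imports). Aux names: prefix `ncmfoc_`.
-/

set_option autoImplicit false

namespace Cfsg.Agent.Helper25.NCM

open Cfsg Cfsg.FusionSystem Cfsg.Agent.Helper25

variable {G : Type*} [Group G] [Finite G] {p : ℕ} [Fact p.Prime] {S : Sylow p G} {T : Subgroup G}
  {E : FusionSystem T}

theorem Hyp.focal (h : Hyp p S T E) {g x : G} (hg : g ∈ M p E) (hx : x ∈ (S : Subgroup G))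
    (hxM : x ∈ M p E) (hgx : g * x * g⁻¹ ∈ (S : Subgroup G)) : x⁻¹ * (g * x * g⁻¹) ∈ T := by
  obtain ⟨t, ht, q, hq, rfl⟩ := h.exists_T_Q hx hxM
  have hqS : q ∈ (S : Subgroup G) := Q_le_S S hq
  have hq'S : q⁻¹ ∈ (S : Subgroup G) := Subgroup.inv_mem _ hqS
  have h1 : g * t * g⁻¹ ∈ (S : Subgroup G) := by
    have e : g * t * g⁻¹ = (g * (t * q) * g⁻¹) * (g * q⁻¹ * g⁻¹) := by group
    rw [e]
    exact Subgroup.mul_mem _ hgx (Q_le_S S (Q_conj_mem p g (Subgroup.inv_mem _ hq)))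
  have h2 : g * t * g⁻¹ ∈ T := h.strong ht h1
  have h3 : t⁻¹ * (g * t * g⁻¹) ∈ T := Subgroup.mul_mem _ (Subgroup.inv_mem _ ht) h2
  have h4 : g * q * g⁻¹ * q⁻¹ ∈ T := R0_le_T p T (h.mem_M2_iff.mp hg.2 q hq)
  have h5 : q⁻¹ * (t⁻¹ * (g * t * g⁻¹)) * q⁻¹⁻¹ ∈ T := h.T_conj_S hq'S h3
  have h6 : q⁻¹ * (g * q * g⁻¹ * q⁻¹) * q⁻¹⁻¹ ∈ T := h.T_conj_S hq'S h4
  have e : (t * q)⁻¹ * (g * (t * q) * g⁻¹) =
      q⁻¹ * (t⁻¹ * (g * t * g⁻¹)) * q⁻¹⁻¹ * (q⁻¹ * (g * q * g⁻¹ * q⁻¹) * q⁻¹⁻¹) := by group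
  rw [e]
  exact Subgroup.mul_mem _ h5 h6

end Cfsg.Agent.Helper25.NCM
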