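import Mathlib
import Cfsg.Agent.Lib.NCM.NCMDefs

/-!
# S5121 farm (design helper25), piece NCM-OPM1 (SHORT): `OpM` is the image in `G` of `O^p(M) = pResidual p ↥M`.

RECIPE. `unfold OpM Cfsg.pResidual`; `rw [MonoidHom.map_closure]`; `congr 1`; `ext g`; `Set.mem_image`:
(→) `⟨hgM, hco⟩ ↦ ⟨⟨g, hgM⟩, by rwa [Set.mem_setOf_eq, Subgroup.orderOf_mk], rfl⟩`; (←) `⟨x, hx, rfl⟩ ↦ ⟨x.2, by rwa [Subgroup.orderOf_coe]⟩`
(`Subgroup.orderOf_coe : orderOf (x : G) = orderOf x`).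
Keep the statement, name, namespace exactly (you may add imports). Aux names: prefix `ncmopm1_`.
-/

set_option autoImplicit false

namespace Cfsg.Agent.Helper25.NCM

open Cfsg Cfsg.FusionSystem Cfsg.Agent.Helper25

variable {G : Type*} [Group G]

theorem OpM_eq_map (p : ℕ) {T : Subgroup G} (E : FusionSystem T) :
    OpM p E = (Cfsg.pResidual p ↥(M p E)).map (M p E).subtype := by
  unfold OpM Cfsg.pResidual
  rw [MonoidHom.map_closure]
  congr 1
  ext g
  constructor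
  · rintro ⟨hgM, hco⟩
    refine ⟨⟨g, hgM⟩, ?_, rfl⟩
    show (orderOf (⟨g, hgM⟩ : ↥(M p E))).Coprime p
    rw [← Subgroup.orderOf_coe]
    exact hco
  · rintro ⟨x, hx, rfl⟩
    refine ⟨x.2, ?_⟩
    have hx' : (orderOf x).Coprime p := hx
    show (orderOf ((x : ↥(M p E)) : G)).Coprime p
    rw [Subgroup.orderOf_coe]
    exact hx'

end Cfsg.Agent.Helper25.NCM
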