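import Mathlib
import Cfsg.Agent.Lib.NCM.NCMM
import Cfsg.Agent.Lib.Helper25.SylowIn
import Cfsg.Agent.Lib.Helper25.FusionSylow2
import Cfsg.Agent.Lib.Helper25.NormalSubsys

/-!
# S5121 farm (design helper25), piece NCM-OPM2 (SHORT): `S ∩ M` is a Sylow `p`-subgroup of `M` (and the same for any normal subgroup).

RECIPE. `Helper25.IsSylowIn.inf_of_normal (Helper25.isSylowIn_top_of_sylow S) le_top (fun n _ => _)` (`Lib/Helper25/FusionSylow2.lean:70`, `Lib/Helper25/SylowIn.lean:155`);
the side goal `Cfsg.conjBy N n = N` for `N` normal: `Helper25.conjBy_normal` (`Lib/Helper25/NormalSubsys.lean:22`, needs the instance `haveI := hN`), or by `ext`, `Helper25.mem_conjBy` (`x ∈ conjBy A g ↔ g⁻¹ * x * g ∈ A`) and `hN.conj_mem`.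
Keep the statements, names, namespace exactly (you may add imports). Aux names: prefix `ncmopm2_`.
-/

set_option autoImplicit false

namespace Cfsg.Agent.Helper25.NCM

open Cfsg Cfsg.FusionSystem Cfsg.Agent.Helper25

variable {G : Type*} [Group G] [Finite G] {p : ℕ} [Fact p.Prime] {S : Sylow p G} {T : Subgroup G}
  {E : FusionSystem T}

theorem isSylowIn_inf_of_normal (S : Sylow p G) {N : Subgroup G} (hN : N.Normal) :
    IsSylowIn p ((S : Subgroup G) ⊓ N) N := by
  have := hN
  exact Helper25.IsSylowIn.inf_of_normal (Helper25.isSylowIn_top_of_sylow S) le_top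
    (fun n _ => Helper25.conjBy_normal N n)

theorem Hyp.isSylowIn_M (h : Hyp p S T E) : IsSylowIn p ((S : Subgroup G) ⊓ M p E) (M p E) :=
  isSylowIn_inf_of_normal S h.M_normal

end Cfsg.Agent.Helper25.NCM
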