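import Mathlib
import Cfsg.Agent.Lib.NCM.NCMFoc
import Cfsg.Agent.Lib.NCM.NCMOpm1
import Cfsg.Agent.Lib.NCM.NCMOpm2
import Cfsg.Agent.S5093

/-!
# S5121 farm (design helper25), piece NCM-OPM3 (MEDIUM): `S ∩ O^p(M) ≤ T` (hyperfocal subgroup theorem in the group `M`).

RECIPE. Let `M' := M p E`. From `h.isSylowIn_M` and `(Helper25.isSylowIn_iff_exists_sylow inf_le_right).mp` get `R : Sylow p ↥M'` with
`hR : (R : Subgroup ↥M') = ((S : Subgroup G) ⊓ M').subgroupOf M'`.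
`hyp := Cfsg.Agent.S5093.result p R : (groupFusionSystem (R : Subgroup ↥M')).hyperfocalSubgroup p = (R : Subgroup ↥M') ⊓ Cfsg.pResidual p ↥M'`.
CLAIM `(groupFusionSystem (R : Subgroup ↥M')).hyperfocalSubgroup p ≤ T.subgroupOf M'`: `unfold FusionSystem.hyperfocalSubgroup`; `Subgroup.closure_le`;
`rintro _ ⟨P, α, x, hPR, -, rfl⟩`; `hα := (Helper25.mem_autGroup_iff _ hPR α.1).mp α.2 : P.subtype.comp α.1.toMonoidHom ∈ (groupFusionSystem ↑R).Hom P`,
which unfolds to `⟨_, _, m, hm⟩` with `m : ↥M'` and `((α.1 y : P) : ↥M') = m * y * m⁻¹`. `Subgroup.mem_subgroupOf`; push the coercion `↥M' → G`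
(`Subgroup.coe_mul`, `Subgroup.coe_inv`) and apply `h.focal (g := (m : G)) (x := ((x : ↥M') : G)) m.2 _ (x : ↥M').2 _`:
`x ∈ P ≤ R`, and `R = (S ⊓ M').subgroupOf M'` gives `((x : ↥M') : G) ∈ S` (`Subgroup.mem_subgroupOf`, `hR ▸ hPR x.2`); likewise `(α.1 x : P)` lies in `P ≤ R`, so `m x m⁻¹ ∈ S`.
FINISH: for `y ∈ S ⊓ OpM p E`: `rw [OpM_eq_map] at hy`; `obtain ⟨y', hy', rfl⟩ := hy.2`; `y' ∈ R` (from `hR`, `Subgroup.mem_subgroupOf`, `⟨hy.1, y'.2⟩`);
so `y' ∈ R ⊓ pResidual = hyperfocal ≤ T.subgroupOf M'` (`hyp ▸ ⟨_, hy'⟩`), i.e. `(y' : G) ∈ T`.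
Keep the statement, name, namespace exactly (you may add imports). Aux names: prefix `ncmopm3_`.
-/

set_option autoImplicit false

namespace Cfsg.Agent.Helper25.NCM

open Cfsg Cfsg.FusionSystem Cfsg.Agent.Helper25

variable {G : Type*} [Group G] [Finite G] {p : ℕ} [Fact p.Prime] {S : Sylow p G} {T : Subgroup G}
  {E : FusionSystem T}

theorem Hyp.S_inf_OpM_le (h : Hyp p S T E) : (S : Subgroup G) ⊓ OpM p E ≤ T := by
  obtain ⟨R, hR⟩ := (Cfsg.Agent.Helper25.isSylowIn_iff_exists_sylow inf_le_right).mp h.isSylowIn_M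
  have hyp := Cfsg.Agent.S5093.result p R
  have claim : (groupFusionSystem (R : Subgroup ↥(M p E))).hyperfocalSubgroup p ≤
      T.subgroupOf (M p E) := by
    unfold FusionSystem.hyperfocalSubgroup
    rw [Subgroup.closure_le]
    rintro _ ⟨P, α, x, hPR, -, rfl⟩
    obtain ⟨-, -, m, hm⟩ := (Cfsg.Agent.Helper25.mem_autGroup_iff _ hPR α.1).mp α.2
    have hm' : ((α.1 x : P) : ↥(M p E)) = m * (x : ↥(M p E)) * m⁻¹ := hm x
    have hxR : (x : ↥(M p E)) ∈ (R : Subgroup ↥(M p E)) := hPR x.2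
    have hxS : (((x : ↥(M p E)) : G)) ∈ (S : Subgroup G) := by
      rw [hR, Subgroup.mem_subgroupOf] at hxR
      exact hxR.1
    have hαR : ((α.1 x : P) : ↥(M p E)) ∈ (R : Subgroup ↥(M p E)) := hPR (α.1 x).2
    have hαR' : m * (x : ↥(M p E)) * m⁻¹ ∈ (R : Subgroup ↥(M p E)) := by
      rw [← hm']; exact hαR
    have hαS : ((m : G) * ((x : ↥(M p E)) : G) * (m : G)⁻¹) ∈ (S : Subgroup G) := by
      rw [hR, Subgroup.mem_subgroupOf] at hαR'
      have h1 := hαR'.1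
      rw [Subgroup.coe_mul, Subgroup.coe_mul, Subgroup.coe_inv] at h1
      exact h1
    have hfoc := h.focal (g := (m : G)) (x := ((x : ↥(M p E)) : G)) m.2 hxS (x : ↥(M p E)).2 hαS
    rw [SetLike.mem_coe, Subgroup.mem_subgroupOf, hm']
    simpa using hfoc
  intro y hy
  have hy2 := hy.2
  rw [OpM_eq_map] at hy2
  obtain ⟨y', hy', rfl⟩ := hy2
  have hy'R : y' ∈ (R : Subgroup ↥(M p E)) := by
    rw [hR, Subgroup.mem_subgroupOf]
    exact ⟨hy.1, y'.2⟩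
  have hmem : y' ∈ (groupFusionSystem (R : Subgroup ↥(M p E))).hyperfocalSubgroup p := by
    rw [hyp]
    exact ⟨hy'R, hy'⟩
  exact Subgroup.mem_subgroupOf.1 (claim hmem)

end Cfsg.Agent.Helper25.NCM
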