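import Mathlib
import Cfsg.Agent.Lib.NCM.NCMM

/-!
# S5121 farm (design helper25), piece NCM-OPMN (SHORT): `OpM = O^p(M)` is normal in `G`.

RECIPE. `unfold OpM at hx ⊢`; `induction hx using Subgroup.closure_induction with`
`| mem y hy => Subgroup.subset_closure ⟨h.M_conj g hy.1, by rw [show g * y * g⁻¹ = MulAut.conj g y from rfl, MulEquiv.orderOf_eq]; exact hy.2⟩`
`| one => by simp` `| mul a b _ _ ha hb => (g a b g⁻¹ = (g a g⁻¹)(g b g⁻¹), group) mul_mem` `| inv a _ ha => (g a⁻¹ g⁻¹ = (g a g⁻¹)⁻¹, group) inv_mem`.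
(See `Helper10.pResidual_normal` in `Lib/Helper10/PResidual.lean` or `Helper25.OpPrime_conj_mem` in `Lib/Helper25/FusionPrimeIndex2.lean:43` for the same pattern.)
Keep the statements, names, namespace exactly (you may add imports). Aux names: prefix `ncmopmn_`.
-/

set_option autoImplicit false

namespace Cfsg.Agent.Helper25.NCM

open Cfsg Cfsg.FusionSystem Cfsg.Agent.Helper25

variable {G : Type*} [Group G] [Finite G] {p : ℕ} [Fact p.Prime] {S : Sylow p G} {T : Subgroup G}
  {E : FusionSystem T}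

theorem Hyp.OpM_conj (h : Hyp p S T E) (g : G) {x : G} (hx : x ∈ OpM p E) :
    g * x * g⁻¹ ∈ OpM p E := by
  unfold OpM at hx ⊢
  induction hx using Subgroup.closure_induction with
  | mem y hy =>
    refine Subgroup.subset_closure ⟨h.M_conj g hy.1, ?_⟩
    rw [show g * y * g⁻¹ = MulAut.conj g y from rfl, MulEquiv.orderOf_eq]
    exact hy.2
  | one => simp
  | mul a b _ _ ha hb =>
    have e : g * (a * b) * g⁻¹ = (g * a * g⁻¹) * (g * b * g⁻¹) := by group
    rw [e]
    exact Subgroup.mul_mem _ ha hb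
  | inv a _ ha =>
    have e : g * a⁻¹ * g⁻¹ = (g * a * g⁻¹)⁻¹ := by group
    rw [e]
    exact Subgroup.inv_mem _ ha

theorem Hyp.OpM_normal (h : Hyp p S T E) : (OpM p E).Normal := ⟨fun _ hx g => h.OpM_conj g hx⟩

end Cfsg.Agent.Helper25.NCM
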