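import Mathlib
import Cfsg.Agent.Lib.NCM.NCMOpmN
import Cfsg.Agent.Lib.NCM.NCMOpm3

/-!
# S5121 farm (design helper25), pieces NCM-HMEM (SHORT) and NCM-HS (SHORT): `H = O^p(M) · T` as a set, and `H ∩ S = T`.

NCM-HMEM `Hyp.mem_H_iff`: `Subgroup.normal_mul` (`(↑(N ⊔ K) : Set G) = ↑N * ↑K` for `N` normal), `Set.mem_mul`.
NCM-HS `Hyp.H_inf_S`: (≤) `x = a * t ∈ H ⊓ S`: `a = (a * t) * t⁻¹ ∈ S`, so `a ∈ S ⊓ OpM ≤ T`, `a * t ∈ T`.
(≥) `le_inf (T_le_H p E) h.hTS`.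
Aux names: prefix `ncmhs_`.
-/

set_option autoImplicit false

namespace Cfsg.Agent.Helper25.NCM

open Cfsg Cfsg.FusionSystem Cfsg.Agent.Helper25

variable {G : Type*} [Group G] [Finite G] {p : ℕ} [Fact p.Prime] {S : Sylow p G} {T : Subgroup G}
  {E : FusionSystem T}

theorem Hyp.mem_H_iff (h : Hyp p S T E) {x : G} :
    x ∈ H p E ↔ ∃ a ∈ OpM p E, ∃ t ∈ T, x = a * t := by
  haveI := h.OpM_normal
  unfold H
  rw [← SetLike.mem_coe, Subgroup.normal_mul, Set.mem_mul]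
  constructor
  · rintro ⟨a, ha, t, ht, rfl⟩
    exact ⟨a, ha, t, ht, rfl⟩
  · rintro ⟨a, ha, t, ht, rfl⟩
    exact ⟨a, ha, t, ht, rfl⟩

theorem Hyp.H_inf_S (h : Hyp p S T E) : H p E ⊓ (S : Subgroup G) = T := by
  apply le_antisymm
  · intro x hx
    obtain ⟨a, ha, t, ht, rfl⟩ := h.mem_H_iff.mp hx.1
    have haS : a ∈ (S : Subgroup G) := by
      have e : a = (a * t) * t⁻¹ := by group
      rw [e]
      exact Subgroup.mul_mem _ hx.2 (Subgroup.inv_mem _ (h.hTS ht))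
    have haT : a ∈ T := h.S_inf_OpM_le ⟨haS, ha⟩
    exact T.mul_mem haT ht
  · exact le_inf (T_le_H p E) h.hTS

theorem Hyp.H_le_M (h : Hyp p S T E) : H p E ≤ M p E := sup_le (OpM_le_M p E) h.T_le_M

end Cfsg.Agent.Helper25.NCM
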