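import Mathlib
import Cfsg.Agent.Lib.NCM.NCMOpm1
import Cfsg.Agent.Lib.NCM.NCMOpm2
import Cfsg.Agent.Lib.Helper10.PResidual

/-!
# S5121 farm (design helper25), piece NCM-MSPLIT (SHORT-MEDIUM): `M = (S ∩ M) · O^p(M)`.

RECIPE. `Helper10.exists_mul_of_pResidual_subgroup (p := p) (M p E) (S : Subgroup G) hR m hm : ∃ r ∈ S, r ∈ M ∧ ∃ u ∈ (pResidual p ↥M).map M.subtype, m = r * u`
(`Lib/Helper10/PResidual.lean:78`), and `OpM_eq_map p E` rewrites the last membership into `u ∈ OpM p E`.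
`hR : ¬ p ∣ (S : Subgroup G).relIndex (M p E)`: `Subgroup.relIndex` is `((S : Subgroup G).subgroupOf (M p E)).index`; from `h.isSylowIn_M` and
`(Helper25.isSylowIn_iff_exists_sylow inf_le_right).mp` get `R : Sylow p ↥(M p E)` with `(R : Subgroup _) = (↑S ⊓ M p E).subgroupOf (M p E)`, which is `(↑S).subgroupOf (M p E)`
(`Subgroup.inf_subgroupOf_right`), and `R.not_dvd_index` (`Sylow.not_dvd_index`; finite index is automatic).
Keep the statement, name, namespace exactly (you may add imports). Aux names: prefix `ncmmsplit_`.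
-/

set_option autoImplicit false

namespace Cfsg.Agent.Helper25.NCM

open Cfsg Cfsg.FusionSystem Cfsg.Agent.Helper25

variable {G : Type*} [Group G] [Finite G] {p : ℕ} [Fact p.Prime] {S : Sylow p G} {T : Subgroup G}
  {E : FusionSystem T}

theorem Hyp.M_eq_mul (h : Hyp p S T E) {m : G} (hm : m ∈ M p E) :
    ∃ s ∈ (S : Subgroup G), s ∈ M p E ∧ ∃ a ∈ OpM p E, m = s * a := by
  have hR : ¬ p ∣ (S : Subgroup G).relIndex (M p E) := by
    obtain ⟨R, hRe⟩ := (isSylowIn_iff_exists_sylow inf_le_right).mp h.isSylowIn_M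
    rw [Subgroup.inf_subgroupOf_right] at hRe
    have h1 := R.not_dvd_index
    rw [hRe] at h1
    exact h1
  obtain ⟨r, hr, hrM, u, hu, hmu⟩ :=
    Cfsg.Agent.Helper10.exists_mul_of_pResidual_subgroup (p := p) (M p E) (S : Subgroup G) hR m hm
  rw [← OpM_eq_map p E] at hu
  exact ⟨r, hr, hrM, u, hu, hmu⟩

end Cfsg.Agent.Helper25.NCM
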