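import Mathlib
import Cfsg.Agent.Lib.NCM.NCMHS
import Cfsg.Agent.Lib.NCM.NCMMSplit

/-!
# S5121 farm (design helper25), piece NCM-HNM (SHORT-MEDIUM): `H` is normalized by `M`.

RECIPE. First `hS : ∀ s ∈ (S : Subgroup G), ∀ y ∈ H p E, s * y * s⁻¹ ∈ H p E`: `obtain ⟨a, ha, t, ht, rfl⟩ := h.mem_H_iff.mp hy`;
`s * (a * t) * s⁻¹ = (s * a * s⁻¹) * (s * t * s⁻¹)` (`group`), first factor in `OpM` (`h.OpM_conj s ha`), second in `T` (`h.T_conj_S hs ht`); `h.mem_H_iff.mpr ⟨_, _, _, _, rfl⟩`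
(or `Subgroup.mul_mem _ (OpM_le_H p E _) (T_le_H p E _)`).
Then `obtain ⟨s, hs, -, a, ha, rfl⟩ := h.M_eq_mul hm`; `(s * a) * x * (s * a)⁻¹ = s * (a * x * a⁻¹) * s⁻¹` (`group`); `a * x * a⁻¹ ∈ H` since `a ∈ OpM ≤ H` (`OpM_le_H p E ha`, `Subgroup.mul_mem`, `Subgroup.inv_mem`); apply `hS`.
Keep the statement, name, namespace exactly (you may add imports). Aux names: prefix `ncmhnm_`.
-/

set_option autoImplicit false

namespace Cfsg.Agent.Helper25.NCM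

open Cfsg Cfsg.FusionSystem Cfsg.Agent.Helper25

variable {G : Type*} [Group G] [Finite G] {p : ℕ} [Fact p.Prime] {S : Sylow p G} {T : Subgroup G}
  {E : FusionSystem T}

theorem Hyp.H_conj_M (h : Hyp p S T E) {m : G} (hm : m ∈ M p E) {x : G} (hx : x ∈ H p E) :
    m * x * m⁻¹ ∈ H p E := by
  have hS : ∀ s ∈ (S : Subgroup G), ∀ y ∈ H p E, s * y * s⁻¹ ∈ H p E := by
    intro s hs y hy
    obtain ⟨a, ha, t, ht, rfl⟩ := h.mem_H_iff.mp hy
    have e : s * (a * t) * s⁻¹ = (s * a * s⁻¹) * (s * t * s⁻¹) := by group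
    rw [e]
    exact Subgroup.mul_mem _ (OpM_le_H p E (h.OpM_conj s ha)) (T_le_H p E (h.T_conj_S hs ht))
  obtain ⟨s, hs, -, a, ha, rfl⟩ := h.M_eq_mul hm
  have e : (s * a) * x * (s * a)⁻¹ = s * (a * x * a⁻¹) * s⁻¹ := by group
  rw [e]
  apply hS s hs
  have haH : a ∈ H p E := OpM_le_H p E ha
  exact Subgroup.mul_mem _ (Subgroup.mul_mem _ haH hx) (Subgroup.inv_mem _ haH)

end Cfsg.Agent.Helper25.NCM
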