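import Mathlib
import Cfsg.Agent.Lib.NCM.NCMHNM
import Cfsg.Agent.Lib.Helper25.SylowIn
import Cfsg.Agent.Lib.Helper25.ConjBy

/-!
# S5121 farm (design helper25), piece NCM-HN (MEDIUM): `H` is normal in `G`.

RECIPE. KEY `hT : ∀ t ∈ T, g * t * g⁻¹ ∈ H p E`. The subgroup `L := Cfsg.conjBy T g` (`Helper25.mem_conjBy : x ∈ conjBy A g ↔ g⁻¹ * x * g ∈ A`, `Lib/Helper25/ConjBy.lean`; so `g t g⁻¹ ∈ L`)
satisfies `L ≤ M p E` (`y ∈ L`: `g⁻¹ y g ∈ T ≤ M`, and `y = g (g⁻¹ y g) g⁻¹ ∈ M` by `h.M_conj g`), and `IsPGroup p L`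
(it is the image of the `p`-group `T` under `MulAut.conj g`: `unfold Cfsg.conjBy` and `IsPGroup.map`; or `IsPGroup.of_bijective`/`card_conjBy`; `h.isPGroup_T`).
`obtain ⟨k, hk, hLk⟩ := h.isSylowIn_M.exists_conj_le hLM hLp` (`Lib/Helper25/SylowIn.lean:113`): `k ∈ M`, `conjBy L k ≤ S ⊓ M`.
For `t ∈ T`: `y := k * (g * t * g⁻¹) * k⁻¹ ∈ conjBy L k` (`mem_conjBy` twice, `group`/`simp [mul_assoc]`), so `y ∈ S`; `y = (k * g) * t * (k * g)⁻¹` (`group`), so `y ∈ T` (`h.strong ht _`), hence `y ∈ H` (`T_le_H`).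
`g * t * g⁻¹ = k⁻¹ * y * k⁻¹⁻¹` (`group`) `∈ H` by `h.H_conj_M (Subgroup.inv_mem _ hk) _`.
FINISH: `obtain ⟨a, ha, t, ht, rfl⟩ := h.mem_H_iff.mp hx`; `g * (a * t) * g⁻¹ = (g * a * g⁻¹) * (g * t * g⁻¹)` (`group`); `OpM_le_H p E (h.OpM_conj g ha)` and `hT t ht`.
Keep the statements, names, namespace exactly (you may add imports). Aux names: prefix `ncmhn_`.
-/

set_option autoImplicit false

namespace Cfsg.Agent.Helper25.NCM

open Cfsg Cfsg.FusionSystem Cfsg.Agent.Helper25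

variable {G : Type*} [Group G] [Finite G] {p : ℕ} [Fact p.Prime] {S : Sylow p G} {T : Subgroup G}
  {E : FusionSystem T}

theorem Hyp.H_conj (h : Hyp p S T E) (g : G) {x : G} (hx : x ∈ H p E) : g * x * g⁻¹ ∈ H p E := by
  have hT : ∀ t ∈ T, g * t * g⁻¹ ∈ H p E := by
    intro t ht
    have hLM : Cfsg.conjBy T g ≤ M p E := by
      intro y hy
      rw [mem_conjBy] at hy
      have h1 := h.M_conj g (h.T_le_M hy)
      have e : g * (g⁻¹ * y * g) * g⁻¹ = y := by group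
      rwa [e] at h1
    have hLp : IsPGroup p (Cfsg.conjBy T g) := h.isPGroup_T.map _
    obtain ⟨k, hk, hLk⟩ := h.isSylowIn_M.exists_conj_le hLM hLp
    have hy : k * (g * t * g⁻¹) * k⁻¹ ∈ Cfsg.conjBy (Cfsg.conjBy T g) k := by
      rw [mem_conjBy, mem_conjBy]
      have e : g⁻¹ * (k⁻¹ * (k * (g * t * g⁻¹) * k⁻¹) * k) * g = t := by group
      rw [e]
      exact ht
    have hyS : k * (g * t * g⁻¹) * k⁻¹ ∈ (S : Subgroup G) := (hLk hy).1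
    have e2 : k * (g * t * g⁻¹) * k⁻¹ = (k * g) * t * (k * g)⁻¹ := by group
    have hyT : k * (g * t * g⁻¹) * k⁻¹ ∈ T := by
      rw [e2] at hyS ⊢
      exact h.strong ht hyS
    have hyH : k * (g * t * g⁻¹) * k⁻¹ ∈ H p E := T_le_H p E hyT
    have h3 := h.H_conj_M (Subgroup.inv_mem _ hk) hyH
    have e3 : k⁻¹ * (k * (g * t * g⁻¹) * k⁻¹) * k⁻¹⁻¹ = g * t * g⁻¹ := by group
    rwa [e3] at h3
  obtain ⟨a, ha, t, ht, rfl⟩ := h.mem_H_iff.mp hx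
  have e : g * (a * t) * g⁻¹ = (g * a * g⁻¹) * (g * t * g⁻¹) := by group
  rw [e]
  exact Subgroup.mul_mem _ (OpM_le_H p E (h.OpM_conj g ha)) (hT t ht)

theorem Hyp.H_normal (h : Hyp p S T E) : (H p E).Normal := ⟨fun _ hx g => h.H_conj g hx⟩

end Cfsg.Agent.Helper25.NCM
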