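import Mathlib
import Cfsg.Agent.Lib.NCM.NCMBasic
import Cfsg.Agent.Lib.Helper25.FusionPrimeIndex3

/-!
# S5121 farm (design helper25), piece NCM-PELT (MEDIUM): `p`-elements of `Aut_E(P)` are induced by every normal subgroup `N ⊇ T` of `G`.

RECIPE. COPY the first half of `Helper25.mem_autGroup_of_orderOf` (`Lib/Helper25/FusionPrimeIndex3.lean`, lines 48-75), with `F := E`, `S := T`:
`obtain ⟨Q, ⟨φ, hφ, rfl⟩, hfa, -⟩ := h.Esat P hP`; `hRT : φ.range ≤ T := range_le E hφ`; `γ' := MulAut.congr (homEquiv E hφ) γ ∈ E.autGroup φ.range`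
(`congr_mem_autGroup E hφ hγ`), of order `p ^ k` (`MulEquiv.orderOf_eq`); `hsyl := (isFullyAutomized_iff E p hRT).mp hfa`; `zpowers γ'` is a `p`-group;
`obtain ⟨δ, hδ, hle⟩ := hsyl.exists_conj_le …`; `obtain ⟨g, hg, hgv⟩ := (mem_autInducedBy_iff _).mp (hle hmem)` with `g ∈ T` and `((δ * γ' * δ⁻¹) y : G) = g * y * g⁻¹`;
`ψ := (φ.range.subtype.comp δ.toMonoidHom).comp (φ.codRestrict φ.range _) ∈ E.Hom P`, `ψ x = δ (homEquiv E hφ x)` (`hψv` there).
(`Finite φ.range`, `Finite T` come from `[Finite G]`: `inferInstance`.)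
NEW PART. `obtain ⟨a, ha⟩ := h.hom_conj hψ` (`ψ x = a * x * a⁻¹`). As in `h1`/`h2` there: `ψ (γ x) = g * ψ x * g⁻¹` for `x : P` (apply `hgv` to `y := δ (homEquiv E hφ x)`;
`(δ * γ' * δ⁻¹) (δ z) = δ (γ' z)`, `γ' (homEquiv E hφ x) = homEquiv E hφ (γ x)` by `MulAut.congr` and `MulEquiv.symm_apply_apply`).
So `a * γ x * a⁻¹ = g * (a * x * a⁻¹) * g⁻¹`, i.e. `γ x = n * x * n⁻¹` with `n := a⁻¹ * g * a` (`group`/`simp [mul_assoc]` after `have := …; calc`),
and `n ∈ N` since `g ∈ T ≤ N` and `N` is normal (`hN.conj_mem g (hTN hg) a⁻¹`, `inv_inv`).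
Keep the statement, name, namespace exactly (you may add imports). Aux names: prefix `ncmpelt_`.
-/

set_option autoImplicit false

namespace Cfsg.Agent.Helper25.NCM

open Cfsg Cfsg.FusionSystem Cfsg.Agent.Helper25

variable {G : Type*} [Group G] [Finite G] {p : ℕ} [Fact p.Prime] {S : Sylow p G} {T : Subgroup G}
  {E : FusionSystem T}

theorem Hyp.pelt_mem (h : Hyp p S T E) {N : Subgroup G} (hN : N.Normal) (hTN : T ≤ N)
    {P : Subgroup G} (hP : P ≤ T) {γ : MulAut P} (hγ : γ ∈ E.autGroup P) {k : ℕ}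
    (hk : orderOf γ = p ^ k) : ∃ n ∈ N, ∀ x : P, ((γ x : P) : G) = n * (x : G) * n⁻¹ := by
  obtain ⟨Q, ⟨φ, hφ, rfl⟩, hfa, -⟩ := h.Esat P hP
  have hRT : φ.range ≤ T := range_le E hφ
  have hγ' : MulAut.congr (homEquiv E hφ) γ ∈ E.autGroup φ.range := congr_mem_autGroup E hφ hγ
  have hord : orderOf (MulAut.congr (homEquiv E hφ) γ) = p ^ k := by
    rw [← hk]; exact MulEquiv.orderOf_eq (MulAut.congr (homEquiv E hφ)) γ
  have hsyl := (isFullyAutomized_iff E p hRT).mp hfa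
  have hpz : IsPGroup p (Subgroup.zpowers (MulAut.congr (homEquiv E hφ) γ)) := by
    apply IsPGroup.of_card (n := k)
    rw [Nat.card_zpowers, hord]
  obtain ⟨δ, hδ, hle⟩ := hsyl.exists_conj_le ((Subgroup.zpowers_le).mpr hγ') hpz
  have hmem : δ * MulAut.congr (homEquiv E hφ) γ * δ⁻¹ ∈
      Cfsg.conjBy (Subgroup.zpowers (MulAut.congr (homEquiv E hφ) γ)) δ := by
    rw [mem_conjBy]
    have : δ⁻¹ * (δ * MulAut.congr (homEquiv E hφ) γ * δ⁻¹) * δ = MulAut.congr (homEquiv E hφ) γ := by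
      group
    rw [this]
    exact Subgroup.mem_zpowers _
  obtain ⟨g, hg, hgv⟩ := (mem_autInducedBy_iff _).mp (hle hmem)
  have hδF := (mem_autGroup_iff E hRT δ).mp hδ
  obtain ⟨ψ, hψdef⟩ : ∃ ψ : P →* G, ψ = (φ.range.subtype.comp δ.toMonoidHom).comp
      (φ.codRestrict φ.range fun x => ⟨x, rfl⟩) := ⟨_, rfl⟩
  have hψ : ψ ∈ E.Hom P := by rw [hψdef]; exact E.comp_mem hφ hδF _
  have hψv : ∀ x : P, ψ x = ((δ (homEquiv E hφ x) : φ.range) : G) := fun x => by rw [hψdef]; rfl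
  obtain ⟨a, ha⟩ := h.hom_conj hψ
  have key : ∀ x : P, ψ (γ x) = g * ψ x * g⁻¹ := by
    intro x
    rw [hψv, hψv]
    have h2 := hgv (δ (homEquiv E hφ x))
    rw [← h2]
    show _ = ((δ ((MulAut.congr (homEquiv E hφ) γ) (δ⁻¹ (δ (homEquiv E hφ x)))) : φ.range) : G)
    rw [MulAut.inv_apply_self]
    show _ = ((δ (homEquiv E hφ (γ ((homEquiv E hφ).symm (homEquiv E hφ x)))) : φ.range) : G)
    rw [MulEquiv.symm_apply_apply]
  refine ⟨a⁻¹ * g * a, ?_, fun x => ?_⟩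
  · have := hN.conj_mem g (hTN hg) a⁻¹
    rwa [inv_inv] at this
  · have h1 := key x
    rw [ha, ha] at h1
    have h3 : ((γ x : P) : G) = a⁻¹ * (a * ((γ x : P) : G) * a⁻¹) * a := by group
    rw [h3, h1]
    group

end Cfsg.Agent.Helper25.NCM
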