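import Mathlib
import Cfsg.Agent.Lib.NCM.NCMAutQ
import Cfsg.Agent.Lib.NCM.NCMPelt
import Cfsg.Agent.Lib.NCM.NCMHN
import Cfsg.Agent.Lib.Helper12.NilCover

/-!
# S5121 farm (design helper25), piece NCM-AUTT (MEDIUM): every element of `Aut_E(T)` is induced by an element of `H`.

RECIPE. `MulAut T` is finite (`T` finite from `[Finite G]`; `inferInstance`, or `Finite.of_injective (fun α : MulAut T => (α : T → T)) DFunLike.coe_injective`).
`obtain ⟨u, y, hu, hy, huy, ⟨k, hk⟩, hyp⟩ := Cfsg.Agent.Helper12.NilCover.exists_pParts p α` (`Lib/Helper12/NilCover.lean:21`: `u y ∈ zpowers α`, `α = u * y`, `orderOf u = p ^ k`, `¬ p ∣ orderOf y`).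
`u, y ∈ E.autGroup T` (`(Subgroup.zpowers_le.mpr hα) hu`, same for `y`).
`obtain ⟨n₁, hn₁, h1⟩ := h.pelt_mem h.H_normal (T_le_H p E) le_rfl hu' hk`; `obtain ⟨n₂, hn₂, h2⟩ := h.autT_pprime_mem hy' (((Nat.Prime.coprime_iff_not_dvd Fact.out).mpr hyp).symm)`.
`n := n₁ * n₂ ∈ H` (`Subgroup.mul_mem _ hn₁ (OpM_le_H p E hn₂)`); for `x : T`: `α x = u (y x)` (`huy`, `MulAut.mul_apply`), `= n₁ * (n₂ * x * n₂⁻¹) * n₁⁻¹` (`h1 (y x)`, `h2 x`), `= n * x * n⁻¹` (`group`/`simp [mul_assoc]`).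
Keep the statement, name, namespace exactly (you may add imports). Aux names: prefix `ncmautt_`.
-/

set_option autoImplicit false

namespace Cfsg.Agent.Helper25.NCM

open Cfsg Cfsg.FusionSystem Cfsg.Agent.Helper25

variable {G : Type*} [Group G] [Finite G] {p : ℕ} [Fact p.Prime] {S : Sylow p G} {T : Subgroup G}
  {E : FusionSystem T}

theorem Hyp.autT_mem (h : Hyp p S T E) {α : MulAut T} (hα : α ∈ E.autGroup T) :
    ∃ n ∈ H p E, ∀ x : T, ((α x : T) : G) = n * (x : G) * n⁻¹ := by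
  have hfin : Finite (MulAut T) :=
    Finite.of_injective (fun α : MulAut T => (α : T → T)) DFunLike.coe_injective
  obtain ⟨u, y, hu, hy, huy, ⟨k, hk⟩, hyp⟩ := Cfsg.Agent.Helper12.NilCover.exists_pParts p α
  have hu' : u ∈ E.autGroup T := (Subgroup.zpowers_le.mpr hα) hu
  have hy' : y ∈ E.autGroup T := (Subgroup.zpowers_le.mpr hα) hy
  obtain ⟨n₁, hn₁, h1⟩ := h.pelt_mem h.H_normal (T_le_H p E) le_rfl hu' hk
  obtain ⟨n₂, hn₂, h2⟩ := h.autT_pprime_mem hy'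
    (((Nat.Prime.coprime_iff_not_dvd Fact.out).mpr hyp).symm)
  refine ⟨n₁ * n₂, Subgroup.mul_mem _ hn₁ (OpM_le_H p E hn₂), fun x => ?_⟩
  have e1 : α x = u (y x) := by rw [huy]; rfl
  rw [e1, h1 (y x), h2 x]
  group

end Cfsg.Agent.Helper25.NCM
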