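import Mathlib
import Cfsg.Agent.Lib.NCM.NCMAutT
import Cfsg.Agent.Lib.Helper25.FusionPrimeIndex3

/-!
# S5121 farm (design helper25), piece NCM-B1 (MEDIUM): `E ⊆ F_T(H)`.

RECIPE. `E' := fusionSystemOfSubgroup (H p E) T (T_le_H p E)`; `φ ∈ E'.Hom P ↔ P ≤ T ∧ (∀ x, φ x ∈ T) ∧ ∃ g ∈ H p E, ∀ x, φ x = g * x * g⁻¹` (definitional: `Iff.rfl`).
(1) `hOp : ∀ P, E.IsCentric P → OpPrime E p P ≤ E'.autGroup P`: `hP : P ≤ T := hc.1`; `rw [OpPrime_eq_closure, Subgroup.closure_le]`; `rintro γ ⟨hγ, k, hk⟩`;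
`obtain ⟨n, hn, hnv⟩ := h.pelt_mem h.H_normal (T_le_H p E) hP hγ hk`; `(mem_autGroup_iff E' hP γ).mpr ⟨hP, fun x => hP (γ x).2, n, hn, fun x => hnv x⟩`.
(2) `intro P φ hφ`; `obtain ⟨α, hα, φ₀, h0, hv⟩ := exists_aut_comp_of_primeIndex p h.isPGroup_T E h.Esat E' hOp hφ` (`Lib/Helper25/FusionPrimeIndex3.lean:24`; `Finite T` by `inferInstance`);
`hφ₀ : φ₀ ∈ E'.Hom P := invCore_le E E' h0`, i.e. `⟨hP, hφ₀T, b, hb, hbv⟩`; `obtain ⟨n, hn, hnv⟩ := h.autT_mem hα`.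
Then `φ x = α ⟨φ₀ x, _⟩ = n * (b * x * b⁻¹) * n⁻¹ = (n * b) * x * (n * b)⁻¹` (`hv x`, `hnv`, `hbv`, `mul_inv_rev`, `mul_assoc`); membership: `⟨hP, (E.le_of_mem hφ).2, n * b, Subgroup.mul_mem _ hn hb, _⟩`.
Keep the statement, name, namespace exactly (you may add imports). Aux names: prefix `ncmb1_`.
-/

set_option autoImplicit false

namespace Cfsg.Agent.Helper25.NCM

open Cfsg Cfsg.FusionSystem Cfsg.Agent.Helper25

variable {G : Type*} [Group G] [Finite G] {p : ℕ} [Fact p.Prime] {S : Sylow p G} {T : Subgroup G}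
  {E : FusionSystem T}

theorem Hyp.E_le (h : Hyp p S T E) :
    ∀ P : Subgroup G, E.Hom P ⊆ (fusionSystemOfSubgroup (H p E) T (T_le_H p E)).Hom P := by
  haveI : Finite T := inferInstance
  have hOp : ∀ P : Subgroup G, E.IsCentric P →
      OpPrime E p P ≤ (fusionSystemOfSubgroup (H p E) T (T_le_H p E)).autGroup P := by
    intro P hc
    have hP : P ≤ T := hc.1
    rw [OpPrime_eq_closure, Subgroup.closure_le]
    rintro γ ⟨hγ, k, hk⟩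
    obtain ⟨n, hn, hnv⟩ := h.pelt_mem h.H_normal (T_le_H p E) hP hγ hk
    exact (mem_autGroup_iff (fusionSystemOfSubgroup (H p E) T (T_le_H p E)) hP γ).mpr
      ⟨hP, fun x => hP (γ x).2, n, hn, fun x => hnv x⟩
  intro P φ hφ
  obtain ⟨α, hα, φ₀, h0, hv⟩ := exists_aut_comp_of_primeIndex p h.isPGroup_T E h.Esat
    (fusionSystemOfSubgroup (H p E) T (T_le_H p E)) hOp hφ
  have hφ₀ : φ₀ ∈ (fusionSystemOfSubgroup (H p E) T (T_le_H p E)).Hom P :=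
    invCore_le E (fusionSystemOfSubgroup (H p E) T (T_le_H p E)) h0
  obtain ⟨hP, hφ₀T, b, hb, hbv⟩ := hφ₀
  obtain ⟨n, hn, hnv⟩ := h.autT_mem hα
  refine ⟨hP, (E.le_of_mem hφ).2, n * b, Subgroup.mul_mem _ hn hb, fun x => ?_⟩
  rw [hv x, hnv]
  show n * φ₀ x * n⁻¹ = n * b * (x : G) * (n * b)⁻¹
  rw [hbv x, mul_inv_rev]
  simp only [mul_assoc]

end Cfsg.Agent.Helper25.NCM
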