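import Mathlib
import Cfsg.Agent.Lib.NCM.NCMB1
import Cfsg.Agent.Lib.NCM.NCMD2

/-!
# S5121 farm (design helper25), piece NCM-B2A (MEDIUM-LONG): conjugation by `a ∈ H` between subgroups of `T` containing `R0` is a map of `E`.

RECIPE. `R := R0 p T`. `haM : a ∈ M p E := h.H_le_M ha`; `ψ₀ := conjHom R a ∈ E.Hom R` (`h.mem_M1_iff.mp haM.1`); `ψ₀.range = R` (`h.wc_R0 _ hψ₀`).
`hrec := h.receptive_of_wc (R0_le_T p T) h.wc_R0 : E.IsReceptive R`; `obtain ⟨ψ, hψ, hψv⟩ := hrec.2 R ψ₀ hψ₀ (h.wc_R0 _ hψ₀)`: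
`ψ ∈ E.Hom (extender T R ψ₀)` with `ψ ⟨x, _⟩ = ψ₀ ⟨x, _⟩` for `x ∈ R`.
`hPN : P ≤ extender T R ψ₀`: for `g ∈ P`, `(Helper25.mem_extender_iff ψ₀ g).mpr ⟨hPT hg, _, a * g * a⁻¹, haP g hg, fun x hx => _⟩` (`Lib/Helper25/Fusion.lean:153`):
`g ∈ normalizer R` (`h.R0_conj g`, `h.R0_conj g⁻¹`, `Subgroup.mem_normalizer_iff`/`Helper25.mem_normalizer_of_forall`), and `a (g x g⁻¹) a⁻¹ = (a g a⁻¹)(a x a⁻¹)(a g a⁻¹)⁻¹` (`conjHom_apply`, `group`).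
`ψ' := ψ.comp (Subgroup.inclusion hPN) ∈ E.Hom P` (`restrict_mem E hPN hψ`); `obtain ⟨b, hb, hbv⟩ : ∃ b ∈ H p E, ∀ x : P, ψ' x = b * x * b⁻¹ := (h.E_le P hψ').2.2`.
`z := b⁻¹ * a`: for `x ∈ R` (`x ∈ P` by `hR`): `b x b⁻¹ = ψ' x = ψ₀ x = a x a⁻¹`, so `z x z⁻¹ = x`; `z ∈ H ≤ M` so `h.mem_M2_iff.mp (h.H_le_M hz).2`; `h.mem_Q_of_stab` gives `z ∈ pCore p G`;
`z ∈ H ⊓ S = T` (`h.H_inf_S`, `Q_le_S S`), so `z ∈ R0 ≤ P`. Finally `conjHom P a = ψ' ∘ (conjHom P z)` : `comp_mem' E (E.conj_mem hPT hzT) hψ' (fun x => z x z⁻¹ ∈ P) (fun x => _)` with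
`a x a⁻¹ = b (z x z⁻¹) b⁻¹` (`group`, as `a = b * z`).
Keep the statement, name, namespace exactly (you may add imports). Aux names: prefix `ncmb2a_`.
-/

set_option autoImplicit false

namespace Cfsg.Agent.Helper25.NCM

open Cfsg Cfsg.FusionSystem Cfsg.Agent.Helper25

variable {G : Type*} [Group G] [Finite G] {p : ℕ} [Fact p.Prime] {S : Sylow p G} {T : Subgroup G}
  {E : FusionSystem T}

theorem Hyp.conj_mem_E_of_R0_le (h : Hyp p S T E) {a : G} (ha : a ∈ H p E) {P : Subgroup G}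
    (hR : R0 p T ≤ P) (hPT : P ≤ T) (haP : ∀ x ∈ P, a * x * a⁻¹ ∈ T) :
    conjHom P a ∈ E.Hom P := by
  have haM : a ∈ M p E := h.H_le_M ha
  have hψ₀ : conjHom (R0 p T) a ∈ E.Hom (R0 p T) := h.mem_M1_iff.mp haM.1
  have hrange := h.wc_R0 _ hψ₀
  have hrec : E.IsReceptive (R0 p T) := h.receptive_of_wc (R0_le_T p T) h.wc_R0
  obtain ⟨ψ, hψ, hψv⟩ := hrec.2 (R0 p T) (conjHom (R0 p T) a) hψ₀ hrange
  have hPN : P ≤ extender T (R0 p T) (conjHom (R0 p T) a) := by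
    intro g hg
    rw [mem_extender_iff]
    refine ⟨hPT hg, ?_, a * g * a⁻¹, haP g hg, fun x hx => ?_⟩
    · apply mem_normalizer_of_forall
      · intro y hy
        exact h.R0_conj g hy
      · intro y hy
        have := h.R0_conj g⁻¹ hy
        rwa [inv_inv] at this
    · rw [conjHom_apply, conjHom_apply]
      group
  have hψ' : ψ.comp (Subgroup.inclusion hPN) ∈ E.Hom P := restrict_mem E hPN hψ
  obtain ⟨b, hb, hbv⟩ := (h.E_le P hψ').2.2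
  have hbR : ∀ x (hx : x ∈ R0 p T), b * x * b⁻¹ = a * x * a⁻¹ := by
    intro x hx
    have h1 := hbv ⟨x, hR hx⟩
    have h2 := hψv x hx (hPN (hR hx))
    rw [conjHom_apply] at h2
    have h3 : (ψ.comp (Subgroup.inclusion hPN)) ⟨x, hR hx⟩ = ψ ⟨x, hPN (hR hx)⟩ := rfl
    rw [h3, h2] at h1
    exact h1.symm
  have hz : b⁻¹ * a ∈ H p E := mul_mem (inv_mem hb) ha
  have hzfix : ∀ x ∈ R0 p T, (b⁻¹ * a) * x * (b⁻¹ * a)⁻¹ = x := by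
    intro x hx
    have := hbR x hx
    calc (b⁻¹ * a) * x * (b⁻¹ * a)⁻¹ = b⁻¹ * (a * x * a⁻¹) * b := by group
      _ = b⁻¹ * (b * x * b⁻¹) * b := by rw [this]
      _ = x := by group
  have hzQ : b⁻¹ * a ∈ pCore p G := h.mem_Q_of_stab hzfix (h.mem_M2_iff.mp (h.H_le_M hz).2)
  have hzT : b⁻¹ * a ∈ T := by
    rw [← h.H_inf_S]
    exact ⟨hz, Q_le_S S hzQ⟩
  have hzR : b⁻¹ * a ∈ R0 p T := ⟨hzT, hzQ⟩
  have hzP : b⁻¹ * a ∈ P := hR hzR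
  have hcz : conjHom P (b⁻¹ * a) ∈ E.Hom P := E.conj_mem hPT hzT
  have hzmem : ∀ x : P, conjHom P (b⁻¹ * a) x ∈ P := by
    intro x
    rw [conjHom_apply]
    exact P.mul_mem (P.mul_mem hzP x.2) (P.inv_mem hzP)
  refine comp_mem' E hcz hψ' hzmem (fun x => ?_)
  rw [hbv, conjHom_apply]
  show a * (x : G) * a⁻¹ = b * (conjHom P (b⁻¹ * a) x) * b⁻¹
  rw [conjHom_apply]
  group

end Cfsg.Agent.Helper25.NCM
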