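import Mathlib
import Cfsg.Agent.Lib.NCM.NCMB2a

/-!
# S5121 farm (design helper25), piece NCM-B2 (SHORT-MEDIUM): `F_T(H) ⊆ E`.

RECIPE. `rintro P φ ⟨hPT, hφT, a, ha, hav⟩` (`φ x = a * x * a⁻¹`). `P' := P ⊔ R0 p T ≤ T` (`sup_le hPT (R0_le_T p T)`).
`haP' : ∀ x ∈ P', a * x * a⁻¹ ∈ T`: `Subgroup.sup_induction`/`Subgroup.closure_induction` on `x ∈ P ⊔ R0` (for `x ∈ P`: `hav ⟨x,_⟩ ▸ hφT _`; for `x ∈ R0`: `R0_le_T p T (h.R0_conj a hx)`;
one, mul (`a (x y) a⁻¹ = (a x a⁻¹)(a y a⁻¹)`), inv) — or: the set `{x | a * x * a⁻¹ ∈ T}` is the subgroup `T.comap (MulAut.conj a).toMonoidHom`, and `sup_le`.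
`hc := h.conj_mem_E_of_R0_le ha le_sup_right hP'T haP' : conjHom P' a ∈ E.Hom P'`; `restrict_mem E le_sup_left hc : (conjHom P' a).comp (inclusion _) ∈ E.Hom P`, and this map is `φ` (`MonoidHom.ext`, `hav`).
Keep the statement, name, namespace exactly (you may add imports). Aux names: prefix `ncmb2_`.
-/

set_option autoImplicit false

namespace Cfsg.Agent.Helper25.NCM

open Cfsg Cfsg.FusionSystem Cfsg.Agent.Helper25

variable {G : Type*} [Group G] [Finite G] {p : ℕ} [Fact p.Prime] {S : Sylow p G} {T : Subgroup G}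
  {E : FusionSystem T}

theorem Hyp.H_fus_le (h : Hyp p S T E) :
    ∀ P : Subgroup G, (fusionSystemOfSubgroup (H p E) T (T_le_H p E)).Hom P ⊆ E.Hom P := by
  rintro P φ ⟨hPT, hφT, a, ha, hav⟩
  have hP'T : P ⊔ R0 p T ≤ T := sup_le hPT (R0_le_T p T)
  have hle : P ⊔ R0 p T ≤ T.comap (MulAut.conj a).toMonoidHom := by
    refine sup_le ?_ ?_
    · intro x hx
      show a * x * a⁻¹ ∈ T
      have := hφT ⟨x, hx⟩
      rwa [hav] at this
    · intro x hx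
      show a * x * a⁻¹ ∈ T
      exact R0_le_T p T (h.R0_conj a hx)
  have haP' : ∀ x ∈ P ⊔ R0 p T, a * x * a⁻¹ ∈ T := fun x hx => hle hx
  have hc := h.conj_mem_E_of_R0_le ha le_sup_right hP'T haP'
  have hr := restrict_mem E (le_sup_left : P ≤ P ⊔ R0 p T) hc
  have e : (conjHom (P ⊔ R0 p T) a).comp (Subgroup.inclusion (le_sup_left : P ≤ P ⊔ R0 p T)) = φ := by
    ext x
    rw [hav]
    rfl
  rwa [e] at hr

end Cfsg.Agent.Helper25.NCM
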