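import Mathlib
import Cfsg.Agent.Lib.NCM.NCMHN
import Cfsg.Agent.Lib.NCM.NCMOpm2

/-!
# S5121 farm (design helper25), piece NCM-HSYL (SHORT): `T` is a Sylow `p`-subgroup of `H`.

`hs := isSylowIn_inf_of_normal S h.H_normal : IsSylowIn p (↑S ⊓ H p E) (H p E)`; `rw [inf_comm, h.H_inf_S] at hs`.
Aux names: prefix `ncmhsyl_`.
-/

set_option autoImplicit false

namespace Cfsg.Agent.Helper25.NCM

open Cfsg Cfsg.FusionSystem Cfsg.Agent.Helper25

variable {G : Type*} [Group G] [Finite G] {p : ℕ} [Fact p.Prime] {S : Sylow p G} {T : Subgroup G}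
  {E : FusionSystem T}

theorem Hyp.isSylowIn_T_H (h : Hyp p S T E) : IsSylowIn p T (H p E) := by
  have hs := isSylowIn_inf_of_normal S h.H_normal
  rw [inf_comm, h.H_inf_S] at hs
  exact hs

theorem Hyp.exists_sylow_H (h : Hyp p S T E) :
    ∃ R : Sylow p (H p E), (R : Subgroup (H p E)) = T.subgroupOf (H p E) :=
  (isSylowIn_iff_exists_sylow (T_le_H p E)).mp h.isSylowIn_T_H

end Cfsg.Agent.Helper25.NCM
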