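import Mathlib
import Cfsg.Agent.Lib.NCM.NCMM
import Cfsg.Agent.Lib.Helper25.SylowIn

/-!
# S5121 farm (design helper25), piece NCM-UNIQA (MEDIUM): any normal `H'` with Sylow subgroup `T` and `F_T(H') = E` satisfies `H' ∩ S = T` and `H' ≤ M`.

RECIPE. `hsyl : IsSylowIn p T H' := (Helper25.isSylowIn_iff_exists_sylow hTH').mpr hS'` (`Lib/Helper25/SylowIn.lean:30`; `IsSylowIn p A K := A ≤ K ∧ IsPGroup p A ∧ ∀ L ≤ K, IsPGroup p L → A ≤ L → L = A`).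
(1) `H' ⊓ S ≤ T`: `L := H' ⊓ ↑S ≤ H'`, `IsPGroup p L` (`S.2.to_le inf_le_right`), `T ≤ L` (`le_inf hTH' h.hTS`), so `L = T` (`hsyl.2.2 L inf_le_left _ _`).
(2) `H' ≤ M p E`: for `g ∈ H'`:
* `g ∈ M1`: `h.mem_M1_iff.mpr`; `rw [hF (R0 p T)]`; `⟨R0_le_T p T, fun x => R0_le_T p T (h.R0_conj g x.2), g, hg, fun x => rfl⟩`.
* `g ∈ M2`: `h.mem_M2_iff.mpr`; for `q ∈ pCore p G`, `w := g * q * g⁻¹ * q⁻¹`: `w ∈ pCore p G` (`Q_conj_mem`, `mul_mem`, `inv_mem`) hence `w ∈ S` (`Q_le_S S`);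
  `w ∈ H'` (`w = g * (q * g⁻¹ * q⁻¹)`, `hN.conj_mem g⁻¹ (inv_mem hg) q`); so `w ∈ H' ⊓ S ≤ T` by (1), `w ∈ R0 = T ⊓ pCore p G`.
Keep the statements, names, namespace exactly (you may add imports). Aux names: prefix `ncmuniqa_`.
-/

set_option autoImplicit false
set_option linter.unusedSectionVars false

namespace Cfsg.Agent.Helper25.NCM

open Cfsg Cfsg.FusionSystem Cfsg.Agent.Helper25

variable {G : Type*} [Group G] [Finite G] {p : ℕ} [Fact p.Prime] {S : Sylow p G} {T : Subgroup G}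
  {E : FusionSystem T}

theorem Hyp.uniq_inf_S (h : Hyp p S T E) (H' : Subgroup G) (hTH' : T ≤ H')
    (hS' : ∃ R : Sylow p H', (R : Subgroup H') = T.subgroupOf H') :
    H' ⊓ (S : Subgroup G) ≤ T := by
  have hsyl : IsSylowIn p T H' := (isSylowIn_iff_exists_sylow hTH').mpr hS'
  have hL : H' ⊓ (S : Subgroup G) = T :=
    hsyl.2.2 _ inf_le_left (S.2.to_le inf_le_right) (le_inf hTH' h.hTS)
  exact hL.le

theorem Hyp.uniq_le_M (h : Hyp p S T E) (H' : Subgroup G) (hTH' : T ≤ H') (hN : H'.Normal)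
    (hS' : ∃ R : Sylow p H', (R : Subgroup H') = T.subgroupOf H')
    (hF : ∀ P : Subgroup G, E.Hom P = (fusionSystemOfSubgroup H' T hTH').Hom P) :
    H' ≤ M p E := by
  have h1 := h.uniq_inf_S H' hTH' hS'
  intro g hg
  have hg1 : g ∈ M1 p E := by
    rw [h.mem_M1_iff, hF (R0 p T)]
    exact ⟨R0_le_T p T, fun x => R0_le_T p T (h.R0_conj g x.2), g, hg, fun x => rfl⟩
  have hg2 : g ∈ M2 p T := by
    rw [h.mem_M2_iff]
    intro q hq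
    have hwQ : g * q * g⁻¹ * q⁻¹ ∈ pCore p G :=
      Subgroup.mul_mem _ (Q_conj_mem p g hq) (Subgroup.inv_mem _ hq)
    have hwH : g * q * g⁻¹ * q⁻¹ ∈ H' := by
      have h2 := H'.mul_mem hg (hN.conj_mem g⁻¹ (H'.inv_mem hg) q)
      have e : g * (q * g⁻¹ * q⁻¹) = g * q * g⁻¹ * q⁻¹ := by group
      rwa [e] at h2
    exact ⟨h1 ⟨hwH, Q_le_S S hwQ⟩, hwQ⟩
  exact ⟨hg1, hg2⟩

end Cfsg.Agent.Helper25.NCM
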