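import Mathlib
import Cfsg.Agent.Lib.NCM.NCMUniqA
import Cfsg.Agent.Lib.NCM.NCMD2

/-!
# S5121 farm (design helper25), piece NCM-UNIQB (MEDIUM): `O^p(M) ≤ H'`.

RECIPE. `unfold OpM`; `rw [Subgroup.closure_le]`; `rintro g ⟨hgM, hco⟩`. `hH'M := h.uniq_le_M H' hTH' hN hS' hF`.
`hgE : conjHom (R0 p T) g ∈ E.Hom (R0 p T) := h.mem_M1_iff.mp hgM.1`; `rw [hF (R0 p T)] at hgE`; `obtain ⟨-, -, b, hb, hbv⟩ := hgE` (`b ∈ H'`, `g * x * g⁻¹ = b * x * b⁻¹` for `x : R0`; `conjHom_apply`).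
`z := b⁻¹ * g`: `z x z⁻¹ = x` for `x ∈ R0` (from `hbv ⟨x, hx⟩`, `group`-manipulate); `z ∈ M p E` (`Subgroup.mul_mem _ (Subgroup.inv_mem _ (hH'M hb)) hgM`), so `h.mem_M2_iff.mp hz.2`; `hzQ : z ∈ pCore p G := h.mem_Q_of_stab _ _`.
So `g = b * z` with `b ∈ H'`, `z ∈ Q`. In the quotient `π := QuotientGroup.mk' H'` (`haveI := hN`): `π g = π z`; `obtain ⟨k, hk⟩ := Q_isPGroup p G ⟨z, hzQ⟩`, so `(π g) ^ p ^ k = π (z ^ p ^ k) = 1`, `orderOf (π g) ∣ p ^ k`;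
`orderOf (π g) ∣ orderOf g` (`orderOf_map_dvd`), coprime to `p ^ k` (`hco.pow_right k`); hence `orderOf (π g) = 1` (`Nat.eq_one_of_dvd_coprimes`/`Nat.Coprime.eq_one_of_dvd`), `π g = 1`, `g ∈ H'` (`QuotientGroup.eq_one_iff`).
Keep the statement, name, namespace exactly (you may add imports). Aux names: prefix `ncmuniqb_`.
-/

set_option autoImplicit false

namespace Cfsg.Agent.Helper25.NCM

open Cfsg Cfsg.FusionSystem Cfsg.Agent.Helper25

variable {G : Type*} [Group G] [Finite G] {p : ℕ} [Fact p.Prime] {S : Sylow p G} {T : Subgroup G}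
  {E : FusionSystem T}

theorem Hyp.uniq_OpM_le (h : Hyp p S T E) (H' : Subgroup G) (hTH' : T ≤ H') (hN : H'.Normal)
    (hS' : ∃ R : Sylow p H', (R : Subgroup H') = T.subgroupOf H')
    (hF : ∀ P : Subgroup G, E.Hom P = (fusionSystemOfSubgroup H' T hTH').Hom P) :
    OpM p E ≤ H' := by
  unfold OpM
  rw [Subgroup.closure_le]
  rintro g ⟨hgM, hco⟩
  have hH'M := h.uniq_le_M H' hTH' hN hS' hF
  have hgE : conjHom (R0 p T) g ∈ E.Hom (R0 p T) := h.mem_M1_iff.mp hgM.1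
  rw [hF (R0 p T)] at hgE
  obtain ⟨-, -, b, hb, hbv⟩ := hgE
  have hbv' : ∀ x ∈ R0 p T, g * x * g⁻¹ = b * x * b⁻¹ := fun x hx => hbv ⟨x, hx⟩
  have hzM : b⁻¹ * g ∈ M p E := Subgroup.mul_mem _ (Subgroup.inv_mem _ (hH'M hb)) hgM
  have hzQ : b⁻¹ * g ∈ pCore p G := by
    apply h.mem_Q_of_stab
    · intro x hx
      have h1 := hbv' x hx
      calc b⁻¹ * g * x * (b⁻¹ * g)⁻¹ = b⁻¹ * (g * x * g⁻¹) * b := by group
        _ = b⁻¹ * (b * x * b⁻¹) * b := by rw [h1]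
        _ = x := by group
    · exact h.mem_M2_iff.mp hzM.2
  have := hN
  have hπ : (QuotientGroup.mk' H') g = (QuotientGroup.mk' H') (b⁻¹ * g) := by
    rw [map_mul, map_inv]
    have hb1 : (QuotientGroup.mk' H') b = 1 := (QuotientGroup.eq_one_iff b).mpr hb
    rw [hb1, inv_one, one_mul]
  obtain ⟨k, hk⟩ := Q_isPGroup p G ⟨b⁻¹ * g, hzQ⟩
  have hk' : (b⁻¹ * g) ^ p ^ k = 1 := by
    have := congrArg Subtype.val hk
    simpa using this
  have hpow : ((QuotientGroup.mk' H') g) ^ p ^ k = 1 := by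
    rw [hπ, ← map_pow, hk', map_one]
  have hd1 : orderOf ((QuotientGroup.mk' H') g) ∣ p ^ k := orderOf_dvd_of_pow_eq_one hpow
  have hd2 : orderOf ((QuotientGroup.mk' H') g) ∣ orderOf g := orderOf_map_dvd _ g
  have hone : orderOf ((QuotientGroup.mk' H') g) = 1 :=
    Nat.eq_one_of_dvd_coprimes (hco.pow_right k) hd2 hd1
  have h1 : (QuotientGroup.mk' H') g = 1 := orderOf_eq_one_iff.mp hone
  exact (QuotientGroup.eq_one_iff g).mp h1

end Cfsg.Agent.Helper25.NCM
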