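import Mathlib
import Cfsg.Agent.Lib.NCM.NCMUniqB
import Cfsg.Agent.Lib.NCM.NCMMSplit

/-!
# S5121 farm (design helper25), piece NCM-UNIQC (SHORT-MEDIUM): uniqueness, `H' = H`.

RECIPE. `le_antisymm`. (≥) `H p E = OpM p E ⊔ T ≤ H'`: `sup_le (h.uniq_OpM_le H' hTH' hN hS' hF) hTH'`.
(≤) for `x ∈ H'`: `x ∈ M p E` (`h.uniq_le_M …`); `obtain ⟨s, hs, -, a, ha, rfl⟩ := h.M_eq_mul hxM` (`x = s * a`, `s ∈ S`, `a ∈ OpM`);
`a ∈ H'` (`h.uniq_OpM_le …`), so `s = (s * a) * a⁻¹ ∈ H'`, `s ∈ H' ⊓ S ≤ T` (`h.uniq_inf_S H' hTH' hS'`); `s * a ∈ H p E` (`Subgroup.mul_mem _ (T_le_H p E _) (OpM_le_H p E ha)`).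
Keep the statement, name, namespace exactly (you may add imports). Aux names: prefix `ncmuniqc_`.
-/

set_option autoImplicit false

namespace Cfsg.Agent.Helper25.NCM

open Cfsg Cfsg.FusionSystem Cfsg.Agent.Helper25

variable {G : Type*} [Group G] [Finite G] {p : ℕ} [Fact p.Prime] {S : Sylow p G} {T : Subgroup G}
  {E : FusionSystem T}

theorem Hyp.unique (h : Hyp p S T E) (H' : Subgroup G) (hTH' : T ≤ H') (hN : H'.Normal)
    (hS' : ∃ R : Sylow p H', (R : Subgroup H') = T.subgroupOf H')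
    (hF : ∀ P : Subgroup G, E.Hom P = (fusionSystemOfSubgroup H' T hTH').Hom P) :
    H' = H p E := by
  apply le_antisymm
  · intro x hx
    have hxM : x ∈ M p E := h.uniq_le_M H' hTH' hN hS' hF hx
    obtain ⟨s, hs, -, a, ha, rfl⟩ := h.M_eq_mul hxM
    have haH' : a ∈ H' := h.uniq_OpM_le H' hTH' hN hS' hF ha
    have hsH' : s ∈ H' := by
      have := H'.mul_mem hx (H'.inv_mem haH')
      rwa [mul_inv_cancel_right] at this
    have hsT : s ∈ T := h.uniq_inf_S H' hTH' hS' ⟨hsH', hs⟩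
    exact Subgroup.mul_mem _ (T_le_H p E hsT) (OpM_le_H p E ha)
  · exact sup_le (h.uniq_OpM_le H' hTH' hN hS' hF) hTH'

end Cfsg.Agent.Helper25.NCM
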